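import Cfsg.Agent.Lib.Lie.Iwahori.Casimir

/-!
# The centre at parameters `q` has the dimension of the space of class functions
-/

set_option autoImplicit false
set_option linter.unusedSectionVars false

namespace CfsgLib.Lie.Iwahori

open Matrix Polynomial

/-- the rank of a polynomial matrix is generically at least any of its values -/
theorem rank_semicontinuous {m n : Type*} [Fintype m] [Fintype n] [DecidableEq m] (M : Matrix m n ℂ[X]) (y0 : ℂ) :
    ∃ p : ℂ[X], p ≠ 0 ∧ ∀ y, p.eval y ≠ 0 →
      (M.map (Polynomial.eval y0)).rank ≤ (M.map (Polynomial.eval y)).rank := by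
  classical
  set A := M.map (Polynomial.eval y0) with hA
  let b := Module.finBasis ℂ (LinearMap.range A.mulVecLin)
  have hr : Module.finrank ℂ (LinearMap.range A.mulVecLin) = A.rank := rfl
  choose v hv using fun j => (b j).2
  obtain ⟨g, hg⟩ := LinearMap.exists_leftInverse_of_injective (LinearMap.range A.mulVecLin).subtype
    (Submodule.ker_subtype _)
  let U : Matrix (Fin (Module.finrank ℂ (LinearMap.range A.mulVecLin))) m ℂ :=
    LinearMap.toMatrix' (b.equivFun.toLinearMap ∘ₗ g)
  let V : Matrix n (Fin (Module.finrank ℂ (LinearMap.range A.mulVecLin))) ℂ := Matrix.of fun u j => v j u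
  refine ⟨((U.map C) * M * (V.map C)).det, ?_, fun y hy => ?_⟩
  · intro h
    have h1 := congrArg (Polynomial.evalRingHom y0) h
    rw [RingHom.map_det, map_zero, RingHom.mapMatrix_apply, Matrix.map_mul, Matrix.map_mul, Matrix.map_map,
      Matrix.map_map] at h1
    simp only [Polynomial.coe_evalRingHom, Function.comp_def, eval_C, Matrix.map_id'] at h1
    have e : U * A * V = 1 := by
      ext i j
      have h2 : (A * V).col j = (b j : m → ℂ) := by
        funext a
        rw [← hv j, mulVecLin_apply]
        rfl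
      have h3 : (U * A * V) i j = (U *ᵥ (A * V).col j) i := by rw [Matrix.mul_assoc]; rfl
      rw [h3, h2]
      show ((LinearMap.toMatrix' (b.equivFun.toLinearMap ∘ₗ g)) *ᵥ _) i = _
      rw [LinearMap.toMatrix'_mulVec, LinearMap.comp_apply]
      have h4 : g (b j : m → ℂ) = b j := LinearMap.congr_fun hg (b j)
      rw [h4]
      simp [Finsupp.single_apply, Matrix.one_apply, eq_comm]
    rw [← hA, e, det_one] at h1
    exact one_ne_zero h1
  · have h1 : ((U.map C) * M * (V.map C)).map (Polynomial.eval y) = U * M.map (Polynomial.eval y) * V := by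
      rw [← Polynomial.coe_evalRingHom, Matrix.map_mul, Matrix.map_mul, Matrix.map_map, Matrix.map_map]
      simp [Function.comp_def]
    have h2 : IsUnit (U * M.map (Polynomial.eval y) * V) := by
      rw [← h1, Matrix.isUnit_iff_isUnit_det, isUnit_iff_ne_zero, ← Polynomial.coe_evalRingHom,
        ← RingHom.mapMatrix_apply, ← RingHom.map_det]
      exact hy
    have h3 := Matrix.rank_of_isUnit _ h2
    rw [Fintype.card_fin] at h3
    exact (hr.symm.trans h3.symm).trans_le
      ((Matrix.rank_mul_le_left _ _).trans (Matrix.rank_mul_le_right _ _))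

namespace LenSys

variable {W : Type*} [Group W] {ι : Type*} (E : LenSys W ι) [Fintype W] [DecidableEq W] [Fintype ι]

theorem exists_word : ∀ n (w : W), E.len w = n → ∃ l : List ι, (l.map E.f).prod = w := by
  intro n
  induction n using Nat.strong_induction_on with
  | _ n ih =>
    intro w hw
    by_cases h : E.len w = 0
    · exact ⟨[], (E.eq_one w h).symm⟩
    · obtain ⟨i, hi⟩ := E.descent w h
      obtain ⟨l, hl⟩ := ih _ (by omega) _ (rfl : E.len (E.f i * w) = _)
      exact ⟨i :: l, by rw [List.map_cons, List.prod_cons, hl, E.f_f]⟩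

theorem Lm_one_mulVec {R : Type*} [CommRing R] (i : ι) (v : W → R) :
    E.Lm (fun _ => (1 : R)) i *ᵥ v = fun u => v (E.f i * u) := by
  funext u
  rw [mulVec, dotProduct, Finset.sum_eq_single (E.f i * u)]
  · simp [Lm, E.f_f]
  · intro w _ hne
    have : u ≠ E.f i * w := fun e => hne (by rw [e, E.f_f])
    simp [Lm, this]
  · simp

theorem Rm_one_mulVec {R : Type*} [CommRing R] (i : ι) (v : W → R) :
    E.Rm (fun _ => (1 : R)) i *ᵥ v = fun u => v (u * E.f i) := by
  funext u
  rw [mulVec, dotProduct, Finset.sum_eq_single (u * E.f i)]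
  · simp [Rm, E.ff_right]
  · intro w _ hne
    have : u ≠ w * E.f i := fun e => hne (by rw [e, E.ff_right])
    simp [Rm, this]
  · simp

theorem finrank_center_one :
    Module.finrank ℂ (LinearMap.ker (E.Adm (fun _ => (1 : ℂ))).mulVecLin) = Nat.card (ConjClasses W) := by
  classical
  let φ : (ConjClasses W → ℂ) →ₗ[ℂ] (W → ℂ) := LinearMap.funLeft ℂ ℂ ConjClasses.mk
  have hφ : LinearMap.range φ = LinearMap.ker (E.Adm (fun _ => (1 : ℂ))).mulVecLin := by
    ext v
    rw [LinearMap.mem_ker, mulVecLin_apply, E.Adm_mulVec_eq_zero]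
    simp only [E.Lm_one_mulVec, E.Rm_one_mulVec]
    constructor
    · rintro ⟨a, rfl⟩ i
      funext u
      show a (ConjClasses.mk (E.f i * u)) = a (ConjClasses.mk (u * E.f i))
      rw [ConjClasses.mk_eq_mk_iff_isConj.2 (isConj_iff.2 ⟨E.f i, by rw [E.inv_f, E.f_f]⟩)]
    · intro h
      have hstep : ∀ l : List ι, ∀ u : W, v ((l.map E.f).prod * u) = v (u * (l.map E.f).prod) := by
        intro l
        induction l with
        | nil => simp
        | cons i l ih =>
          intro u
          rw [List.map_cons, List.prod_cons, mul_assoc, congrFun (h i) _, mul_assoc, ih, mul_assoc]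
      refine ⟨Quotient.lift v fun a b hab => ?_, funext fun u => rfl⟩
      obtain ⟨c, hc⟩ := isConj_iff.1 hab
      obtain ⟨l, hl⟩ := E.exists_word _ c rfl
      rw [← hc, ← hl, mul_assoc, hstep, inv_mul_cancel_right]
  rw [← hφ, LinearMap.finrank_range_of_inj (LinearMap.funLeft_injective_of_surjective _ _ _ ConjClasses.mk_surjective),
    Module.finrank_fintype_fun_eq_card, Nat.card_eq_fintype_card]

/-- the dimension of the centre at parameters `q ≥ 1` is the number of conjugacy classes -/
theorem finrank_center (q : ι → ℕ) (hq : E.Compat q) (h1 : ∀ i, 1 ≤ q i) :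
    Module.finrank ℂ (LinearMap.ker (E.Adm (fun i => (q i : ℂ))).mulVecLin) = Nat.card (ConjClasses W) := by
  classical
  let xp : ι → ℂ[X] := fun i => 1 + C ((q i : ℂ) - 1) * X
  have hev : ∀ y : ℂ, (Polynomial.evalRingHom y) ∘ xp = fun i => 1 + ((q i : ℂ) - 1) * y := fun y => by
    funext i; simp [xp]
  have hsum : ∀ n : ℕ, ((E.Adm xp).map (Polynomial.eval (n : ℂ))).rank +
      ((E.Cm xp).map (Polynomial.eval (n : ℂ))).rank = Fintype.card W := by
    intro n
    have hpos : ∀ i, 0 < (1 + ((q i : ℝ) - 1) * n) := fun i => by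
      have : (1 : ℝ) ≤ q i := by exact_mod_cast h1 i
      have h2 : 0 ≤ ((q i : ℝ) - 1) * n := mul_nonneg (by linarith) (Nat.cast_nonneg n)
      linarith
    have h := E.rank_add_rank (fun i => 1 + ((q i : ℝ) - 1) * n)
      (fun i j w e => by simp only; rw [hq i j w e]) hpos
    rw [← Polynomial.coe_evalRingHom, E.Adm_map, E.Cm_map, hev]
    convert! h using 4 <;> push_cast <;> rfl
  have hle : ∀ a b : ℕ, ((E.Adm xp).map (Polynomial.eval (a : ℂ))).rank ≤
      ((E.Adm xp).map (Polynomial.eval (b : ℂ))).rank := by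
    intro a b
    obtain ⟨p, hp0, hp⟩ := rank_semicontinuous (E.Adm xp) (a : ℂ)
    obtain ⟨r, hr0, hr⟩ := rank_semicontinuous (E.Cm xp) (b : ℂ)
    obtain ⟨n, hn⟩ : ∃ n : ℕ, (p * r).eval (n : ℂ) ≠ 0 := by
      by_contra h
      push Not at h
      exact mul_ne_zero hp0 hr0 (Polynomial.eq_zero_of_infinite_isRoot _
        ((Set.infinite_range_of_injective Nat.cast_injective).mono fun z hz => by
          obtain ⟨n, rfl⟩ := hz; exact h n))
    rw [eval_mul, mul_ne_zero_iff] at hn
    have := hp _ hn.1
    have := hr _ hn.2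
    have := hsum n
    have := hsum b
    omega
  have heq := le_antisymm (hle 0 1) (hle 1 0)
  rw [← Polynomial.coe_evalRingHom, ← Polynomial.coe_evalRingHom, E.Adm_map, E.Adm_map, hev, hev] at heq
  simp only [Nat.cast_zero, mul_zero, add_zero, Nat.cast_one, mul_one, add_sub_cancel] at heq
  have k0 := LinearMap.finrank_range_add_finrank_ker (E.Adm (fun _ => (1 : ℂ))).mulVecLin
  have k1 := LinearMap.finrank_range_add_finrank_ker (E.Adm (fun i => (q i : ℂ))).mulVecLin
  rw [← E.finrank_center_one]
  unfold Matrix.rank at heq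
  omega

end LenSys

end CfsgLib.Lie.Iwahori
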