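import Cfsg.Agent.Lib.Char.Counting
import Cfsg.Agent.Lib.Char.Inertia
import Cfsg.Agent.Lib.Char.Perm

/-!
# Constituents of a permutation character and the centre of its endomorphism algebra
-/

set_option autoImplicit false
set_option linter.unusedSectionVars false
set_option linter.style.haveILetI false

namespace CfsgLib.Lie.Iwahori

open scoped ComplexConjugate
open Cfsg Matrix CfsgLib.Char

universe u v

section schur

variable {G : Type u} [Group G] [Fintype G]

theorem sum_convolution_ne {χ ψ : IrrCharacter G} (hne : χ ≠ ψ) (g : G) :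
    ∑ a : G, (ψ : G → ℂ) a * (χ : G → ℂ) (a⁻¹ * g) = 0 := by
  have h0 := classInner_irr_ne hne.symm
  obtain ⟨χ, n, ρ, hρ, rfl⟩ := χ
  obtain ⟨ψ, n', σ, hσ, rfl⟩ := ψ
  obtain ⟨c, hc⟩ := schur_scalar ρ (∑ a, σ.character a • ρ a⁻¹) fun x => by
    simp only [Finset.sum_mul, Finset.mul_sum, smul_mul_assoc, mul_smul_comm, ← map_mul]
    refine Fintype.sum_bijective (fun a => x⁻¹ * a * x⁻¹⁻¹) (MulAut.conj x⁻¹).bijective _ _ fun a => ?_
    rw [show x * (x⁻¹ * a * x⁻¹⁻¹)⁻¹ = a⁻¹ * x by group, Representation.char_conj]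
  have h1 := congrArg (LinearMap.trace ℂ _) hc
  rw [trace_smul_id, map_sum] at h1
  have hsum : ∑ a : G, LinearMap.trace ℂ _ (σ.character a • ρ a⁻¹) = 0 := by
    simp only [classInner, mul_eq_zero, inv_eq_zero, card_ne_zero', false_or] at h0
    refine Eq.trans (Finset.sum_congr rfl fun a _ => ?_) h0
    rw [map_smul, smul_eq_mul, ← char_inv]; rfl
  have h3 : ρ.character 1 ≠ 0 := irr_one_ne_zero ⟨_, n, ρ, hρ, rfl⟩
  rw [Representation.char_one] at h3
  rw [hsum, eq_comm, mul_eq_zero] at h1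
  have hc0 : c = 0 := h1.resolve_right h3
  have h2 := congrArg (fun T => LinearMap.trace ℂ _ (T * ρ g)) hc
  simp only [Finset.sum_mul, map_sum, smul_mul_assoc, map_smul, smul_eq_mul, ← map_mul, hc0, zero_mul] at h2
  exact h2

end schur

variable {G : Type u} [Group G] [Fintype G] {Ω : Type v} [Fintype Ω] [DecidableEq Ω] [MulAction G Ω]

/-- permutation matrices -/
def pm (g : G) : Matrix Ω Ω ℂ := Matrix.of fun i j => if g • j = i then 1 else 0

theorem pm_mul (g h : G) : pm (Ω := Ω) (g * h) = pm g * pm h := by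
  ext i j
  simp only [Matrix.mul_apply, pm, Matrix.of_apply, mul_smul]
  rw [Finset.sum_eq_single (h • j)]
  · simp
  · intro b _ hb; simp [Ne.symm hb]
  · simp

theorem pm_one : pm (Ω := Ω) (1 : G) = 1 := by
  ext i j
  simp [pm, Matrix.one_apply, eq_comm]

theorem pm_trace (g : G) : (pm (Ω := Ω) g).trace = permChar G Ω g := by
  simp only [Matrix.trace, Matrix.diag, pm, Matrix.of_apply, Finset.sum_boole, permChar]
  congr 1
  rw [Nat.card_eq_fintype_card, ← Fintype.card_subtype]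
  rfl

/-- the operator of a function -/
noncomputable def rho : (G → ℂ) →ₗ[ℂ] Matrix Ω Ω ℂ where
  toFun f := ∑ g, f g • pm g⁻¹
  map_add' f f' := by simp [add_smul, Finset.sum_add_distrib]
  map_smul' c f := by simp [Finset.smul_sum, smul_smul]

theorem rho_apply (f : G → ℂ) : rho (Ω := Ω) f = ∑ g, f g • pm g⁻¹ := rfl

theorem rho_mul (f f' : G → ℂ) :
    rho (Ω := Ω) f * rho f' = rho fun c => ∑ a, f' a * f (a⁻¹ * c) := by
  rw [rho_apply, rho_apply, rho_apply, Finset.sum_mul_sum, Finset.sum_comm]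
  simp only [Finset.sum_smul]
  conv_rhs => rw [Finset.sum_comm]
  refine Finset.sum_congr rfl fun b _ => ?_
  refine Fintype.sum_equiv (Equiv.mulLeft b) _ _ fun a => ?_
  rw [smul_mul_assoc, mul_smul_comm, smul_smul, ← pm_mul, Equiv.coe_mulLeft, inv_mul_cancel_left,
    _root_.mul_inv_rev, mul_comm (f a)]

/-- the matrices commuting with the group and with its commutant -/
def dblC : Submodule ℂ (Matrix Ω Ω ℂ) where
  carrier := {z | (∀ g : G, z * pm g = pm g * z) ∧
    ∀ X : Matrix Ω Ω ℂ, (∀ g : G, X * pm g = pm g * X) → z * X = X * z}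
  add_mem' := fun ha hb => ⟨fun g => by rw [add_mul, mul_add, ha.1, hb.1],
    fun X hX => by rw [add_mul, mul_add, ha.2 X hX, hb.2 X hX]⟩
  zero_mem' := ⟨fun g => by simp, fun X _ => by simp⟩
  smul_mem' := fun c z hz => ⟨fun g => by rw [smul_mul_assoc, mul_smul_comm, hz.1],
    fun X hX => by rw [smul_mul_assoc, mul_smul_comm, hz.2 X hX]⟩

theorem exists_rho_of_dblC {z : Matrix Ω Ω ℂ} (hz : z ∈ dblC (G := G)) :
    ∃ f : G → ℂ, IsClassFunction G f ∧ rho (Ω := Ω) f = z := by
  classical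
  obtain ⟨hzG, hzX⟩ := hz
  -- the span of the permutation matrices is the range of `rho`
  set S := LinearMap.range (rho (G := G) (Ω := Ω)) with hS
  have hpm : ∀ g : G, pm (Ω := Ω) g ∈ S := fun g => ⟨Pi.single g⁻¹ 1, by
    rw [rho_apply, Finset.sum_eq_single g⁻¹ (fun b _ hb => by simp [Pi.single_apply, hb]) (by simp)]
    simp⟩
  have hleft : ∀ (g : G), ∀ X ∈ S, pm g * X ∈ S := by
    rintro g X ⟨f, rfl⟩
    rw [rho_apply, Finset.mul_sum]
    refine Submodule.sum_mem _ fun a _ => ?_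
    rw [mul_smul_comm, ← pm_mul]
    exact Submodule.smul_mem _ _ (hpm _)
  -- an equivariant projection onto it
  obtain ⟨p, hp⟩ := LinearMap.exists_leftInverse_of_injective S.subtype (Submodule.ker_subtype _)
  let p0 : Matrix Ω Ω ℂ →ₗ[ℂ] Matrix Ω Ω ℂ := S.subtype ∘ₗ p
  let q : Matrix Ω Ω ℂ →ₗ[ℂ] Matrix Ω Ω ℂ :=
    (Nat.card G : ℂ)⁻¹ • ∑ g : G, LinearMap.mulLeft ℂ (pm g⁻¹) ∘ₗ p0 ∘ₗ LinearMap.mulLeft ℂ (pm g)
  have hq : ∀ X, q X = (Nat.card G : ℂ)⁻¹ • ∑ g : G, pm g⁻¹ * p0 (pm g * X) := fun X => by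
    simp [q, LinearMap.sum_apply]
  have hqS : ∀ X, q X ∈ S := fun X => by
    rw [hq]
    exact Submodule.smul_mem _ _ (Submodule.sum_mem _ fun g _ => hleft _ _ (p _).2)
  have hqid : ∀ X ∈ S, q X = X := fun X hX => by
    have e : ∀ g : G, p0 (pm g * X) = pm g * X := fun g =>
      congrArg Subtype.val (LinearMap.congr_fun hp ⟨_, hleft g X hX⟩)
    simp only [hq, e, ← mul_assoc, ← pm_mul, inv_mul_cancel, pm_one, one_mul, Finset.sum_const,
      Finset.card_univ, ← Nat.card_eq_fintype_card]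
    rw [← Nat.cast_smul_eq_nsmul ℂ, smul_smul, inv_mul_cancel₀ card_ne_zero', one_smul]
  have hqeq : ∀ (h : G) X, q (pm h * X) = pm h * q X := fun h X => by
    rw [hq, hq, mul_smul_comm, Finset.mul_sum]
    congr 1
    refine Fintype.sum_equiv (Equiv.mulRight h) _ _ fun g => ?_
    rw [Equiv.coe_mulRight, ← mul_assoc (pm h), ← pm_mul, ← mul_assoc (pm g), ← pm_mul]
    congr 2
    group
  -- its blocks lie in the commutant
  let blk : Ω → Ω → Matrix Ω Ω ℂ := fun k l => Matrix.of fun a b => q (Matrix.single b l 1) a k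
  have hsum : ∀ X : Matrix Ω Ω ℂ, ∀ k a, q X a k = ∑ l, (blk k l * X) a l := by
    intro X k a
    conv_lhs => rw [Matrix.matrix_eq_sum_single X]
    simp only [map_sum, Matrix.sum_apply, Matrix.mul_apply, blk, Matrix.of_apply]
    rw [Finset.sum_comm]
    refine Finset.sum_congr rfl fun b _ => Finset.sum_congr rfl fun c _ => ?_
    conv_lhs => rw [show Matrix.single c b (X c b) = X c b • Matrix.single c b (1 : ℂ) by
      rw [Matrix.smul_single, smul_eq_mul, mul_one], map_smul]
    rw [Matrix.smul_apply, smul_eq_mul, mul_comm]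
  have hblk : ∀ k l, ∀ g : G, blk k l * pm g = pm g * blk k l := by
    intro k l g
    ext a b
    have h1 : Matrix.single (g • b) l (1 : ℂ) = pm g * Matrix.single b l 1 := by
      ext x y
      simp only [Matrix.mul_apply, pm, Matrix.of_apply, Matrix.single_apply]
      rw [Finset.sum_eq_single b]
      · by_cases hy : l = y <;> by_cases hx : g • b = x <;> simp [hx, hy]
      · intro c _ hc; simp [Ne.symm hc]
      · simp
    have e1 : (blk k l * pm (Ω := Ω) g) a b = q (Matrix.single (g • b) l 1) a k := by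
      simp only [Matrix.mul_apply, blk, pm, Matrix.of_apply, mul_ite, mul_one, mul_zero]
      rw [Finset.sum_ite_eq]
      simp
    rw [e1, h1, hqeq]
    simp [Matrix.mul_apply, blk]
  have hzS : z ∈ S := by
    have e : q z = z * q 1 := by
      ext a k
      rw [Matrix.mul_apply]
      simp only [hsum, mul_one, Finset.mul_sum]
      rw [Finset.sum_comm]
      refine Finset.sum_congr rfl fun l _ => ?_
      rw [← hzX _ (hblk k l), Matrix.mul_apply]
    have h1 : q 1 = 1 := hqid 1 (by rw [← pm_one (G := G)]; exact hpm 1)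
    rw [h1, mul_one] at e
    rw [← e]
    exact hqS z
  obtain ⟨f0, hf0⟩ := hzS
  refine ⟨fun g => (Nat.card G : ℂ)⁻¹ * ∑ h : G, f0 (h * g * h⁻¹), fun g k => ?_, ?_⟩
  · simp only
    congr 1
    refine Fintype.sum_equiv (Equiv.mulRight k) _ _ fun h => ?_
    simp [mul_assoc]
  · have e : ∀ h : G, rho (Ω := Ω) (fun g => f0 (h * g * h⁻¹)) = z := fun h => by
      have h1 : rho (Ω := Ω) (fun g => f0 (h * g * h⁻¹)) = pm h⁻¹ * rho f0 * pm h := by
        simp only [rho_apply, Finset.mul_sum, Finset.sum_mul, mul_smul_comm, smul_mul_assoc, ← pm_mul]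
        refine Fintype.sum_equiv (MulAut.conj h).toEquiv _ _ fun g => ?_
        simp only [MulEquiv.toEquiv_eq_coe, EquivLike.coe_coe, MulAut.conj_apply]
        congr 2
        group
      rw [h1, hf0, ← hzG, mul_assoc, ← pm_mul, inv_mul_cancel, pm_one, mul_one]
    have e2 : (fun g => (Nat.card G : ℂ)⁻¹ * ∑ h : G, f0 (h * g * h⁻¹)) =
        (Nat.card G : ℂ)⁻¹ • ∑ h : G, fun g => f0 (h * g * h⁻¹) := by
      funext g; simp [Finset.sum_apply]
    rw [e2, map_smul, map_sum, Finset.sum_congr rfl fun h _ => e h, Finset.sum_const, Finset.card_univ,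
      ← Nat.card_eq_fintype_card, ← Nat.cast_smul_eq_nsmul ℂ, smul_smul, inv_mul_cancel₀ card_ne_zero', one_smul]

theorem rho_mem_dblC {f : G → ℂ} (hf : IsClassFunction G f) : rho (Ω := Ω) f ∈ dblC (G := G) := by
  refine ⟨fun h => ?_, fun X hX => ?_⟩
  · simp only [rho_apply, Finset.sum_mul, Finset.mul_sum, smul_mul_assoc, mul_smul_comm, ← pm_mul]
    refine Fintype.sum_equiv (MulAut.conj h⁻¹).toEquiv _ _ fun g => ?_
    simp only [MulEquiv.toEquiv_eq_coe, EquivLike.coe_coe, MulAut.conj_apply]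
    rw [hf g h⁻¹]
    congr 2
    group
  · simp only [rho_apply, Finset.sum_mul, Finset.mul_sum, smul_mul_assoc, mul_smul_comm, hX]

theorem rho_irr_eq_zero {χ : IrrCharacter G} (h : classInner (permChar G Ω) (χ : G → ℂ) = 0) :
    rho (Ω := Ω) (χ : G → ℂ) = 0 := by
  classical
  set c := (Nat.card G : ℂ) / (χ : G → ℂ) 1 with hc
  have hc0 : c ≠ 0 := div_ne_zero card_ne_zero' (irr_one_ne_zero χ)
  have hsq : rho (Ω := Ω) (χ : G → ℂ) * rho (χ : G → ℂ) = c • rho (χ : G → ℂ) := by
    rw [rho_mul, ← map_smul]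
    congr 1
    funext g
    rw [sum_irr_convolution χ g, Pi.smul_apply, smul_eq_mul, hc]
    ring
  have htr : (rho (Ω := Ω) (χ : G → ℂ)).trace = 0 := by
    simp only [classInner, mul_eq_zero, inv_eq_zero, card_ne_zero', false_or] at h
    rw [rho_apply, Matrix.trace_sum, ← h]
    refine Fintype.sum_equiv (Equiv.inv G) _ _ fun g => ?_
    rw [Matrix.trace_smul, pm_trace, smul_eq_mul, Equiv.inv_apply]
    obtain ⟨χ, n, σ, hσ, rfl⟩ := χ
    rw [← char_inv, inv_inv, mul_comm]
  set P := c⁻¹ • rho (Ω := Ω) (χ : G → ℂ) with hP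
  have hPP : P * P = P := by
    rw [hP, smul_mul_assoc, mul_smul_comm, hsq, smul_smul c⁻¹ c, inv_mul_cancel₀ hc0, one_smul]
  have hP0 : P = 0 := by
    let L := Matrix.toLin' P
    have hL : LinearMap.IsProj (LinearMap.range L) L := by
      refine ⟨fun x => LinearMap.mem_range_self L x, ?_⟩
      rintro _ ⟨x, rfl⟩
      show (L ∘ₗ L) x = L x
      rw [← Matrix.toLin'_mul, hPP]
    have ht : LinearMap.trace ℂ _ L = 0 := by
      rw [Matrix.trace_toLin'_eq, hP, Matrix.trace_smul, htr, smul_zero]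
    rw [hL.trace, Nat.cast_eq_zero, Submodule.finrank_eq_zero, LinearMap.range_eq_bot] at ht
    exact Matrix.toLin'.injective (by rw [map_zero]; exact ht)
  exact (smul_eq_zero.1 hP0).resolve_left (inv_ne_zero hc0)

theorem rho_irr_ne_zero {χ : IrrCharacter G} (h : classInner (permChar G Ω) (χ : G → ℂ) ≠ 0) :
    rho (Ω := Ω) (χ : G → ℂ) ≠ 0 := by
  intro h0
  refine h ?_
  have htr := congrArg Matrix.trace h0
  rw [rho_apply, Matrix.trace_sum, Matrix.trace_zero] at htr
  rw [classInner, mul_eq_zero]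
  refine Or.inr ?_
  rw [← htr]
  refine Fintype.sum_equiv (Equiv.inv G) _ _ fun g => ?_
  rw [Matrix.trace_smul, pm_trace, smul_eq_mul, Equiv.inv_apply, inv_inv]
  obtain ⟨χ, n, σ, hσ, rfl⟩ := χ
  rw [← char_inv, mul_comm]

/-- the number of constituents is the dimension of the centre of the endomorphism algebra -/
theorem card_constituents :
    Nat.card {χ : IrrCharacter G // ∃ φ : G → ℂ, IsCharacter G φ ∧ permChar G Ω = (χ : G → ℂ) + φ} =
      Module.finrank ℂ ↥(dblC (G := G) (Ω := Ω)) := by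
  classical
  haveI : Finite (IrrCharacter G) := (linearIndependent_irr (G := G)).finite
  haveI := Fintype.ofFinite (IrrCharacter G)
  have hπ : IsCharacter G (permChar G Ω) := isCharacter_permChar Ω
  have hiff : ∀ χ : IrrCharacter G, (∃ φ : G → ℂ, IsCharacter G φ ∧ permChar G Ω = (χ : G → ℂ) + φ) ↔
      classInner (permChar G Ω) (χ : G → ℂ) ≠ 0 := by
    intro χ
    refine ⟨?_, fun h => ⟨_, isCharacter_sub_constituent hπ χ h, by simp⟩⟩
    rintro ⟨φ, hφ, e⟩
    obtain ⟨m, hm⟩ := classInner_char_irr_nat hφ χ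
    rw [e, classInner_add_left, classInner_irr_self, hm]
    exact_mod_cast (by omega : 1 + m ≠ 0)
  let T := {χ : IrrCharacter G // classInner (permChar G Ω) (χ : G → ℂ) ≠ 0}
  let b : T → ↥(dblC (G := G) (Ω := Ω)) := fun χ => ⟨rho (χ.1 : G → ℂ), rho_mem_dblC (isClassFunction_irr χ.1)⟩
  have hli : LinearIndependent ℂ b := by
    rw [Fintype.linearIndependent_iff]
    intro g hg ψ
    have h1 : ∑ χ : T, g χ • rho (Ω := Ω) (χ.1 : G → ℂ) = 0 := by
      simpa [b] using congrArg Subtype.val hg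
    have h2 := congrArg (fun X => X * rho (Ω := Ω) (ψ.1 : G → ℂ)) h1
    simp only [Finset.sum_mul, zero_mul, smul_mul_assoc, rho_mul] at h2
    rw [Finset.sum_eq_single ψ] at h2
    · have e : (fun c => ∑ a, (ψ.1 : G → ℂ) a * (ψ.1 : G → ℂ) (a⁻¹ * c)) =
          ((Nat.card G : ℂ) / (ψ.1 : G → ℂ) 1) • (ψ.1 : G → ℂ) := by
        funext c; rw [sum_irr_convolution ψ.1 c, Pi.smul_apply, smul_eq_mul]; ring
      rw [e, map_smul, smul_smul] at h2
      have h3 := (smul_eq_zero.1 h2).resolve_right (rho_irr_ne_zero ψ.2)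
      exact (mul_eq_zero.1 h3).resolve_right (div_ne_zero card_ne_zero' (irr_one_ne_zero ψ.1))
    · intro χ _ hne
      have hne' : χ.1 ≠ ψ.1 := fun e => hne (Subtype.ext e)
      rw [show (fun c => ∑ a, (ψ.1 : G → ℂ) a * (χ.1 : G → ℂ) (a⁻¹ * c)) = 0 from
        funext fun c => sum_convolution_ne hne' c, map_zero, smul_zero]
    · simp
  have hsp : ⊤ ≤ Submodule.span ℂ (Set.range b) := by
    rintro ⟨z, hz⟩ -
    obtain ⟨f, hf, rfl⟩ := exists_rho_of_dblC hz
    have e : rho (Ω := Ω) f = ∑ χ : T, classInner f (χ.1 : G → ℂ) • rho (χ.1 : G → ℂ) := by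
      conv_lhs => rw [classFun_expand hf]
      rw [map_sum]
      simp only [map_smul]
      rw [← Finset.sum_filter_of_ne (p := fun χ : IrrCharacter G => classInner (permChar G Ω) (χ : G → ℂ) ≠ 0)
        (fun χ _ hne h0 => hne (by rw [rho_irr_eq_zero h0, smul_zero]))]
      exact Finset.sum_subtype _ (fun χ => by simp) _
    have e' : (⟨rho f, hz⟩ : ↥(dblC (G := G) (Ω := Ω))) = ∑ χ : T, classInner f (χ.1 : G → ℂ) • b χ :=
      Subtype.ext (by simpa [b] using e)
    rw [e']
    exact Submodule.sum_mem _ fun χ _ => Submodule.smul_mem _ _ (Submodule.subset_span ⟨χ, rfl⟩)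
  rw [Module.finrank_eq_card_basis (Module.Basis.mk hli hsp), Nat.card_congr (Equiv.subtypeEquivRight hiff),
    Nat.card_eq_fintype_card]

end CfsgLib.Lie.Iwahori
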