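import Cfsg.Agent.Lib.Lie.FeitHigman.Hecke
import Cfsg.Agent.Lib.Lie.Iwahori.Constant
import Cfsg.Agent.Lib.Lie.Iwahori.PermCentre
import Cfsg.Prelude.Def_ParabolicCharacters

/-!
# Constituents of the permutation character on the cosets of `B`

Their number is the number of conjugacy classes of the Weyl group.
-/

set_option autoImplicit false
set_option linter.style.haveILetI false
set_option linter.unusedSectionVars false

namespace CfsgLib.Lie.Iwahori

open CfsgLib.Lie.BN CfsgLib.Lie.FeitHigman Matrix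

universe u

variable {G : Type u} [Group G] (P : Cfsg.BNPair G) [hN : ((P.B ⊓ P.N).subgroupOf P.N).Normal]

/-- the Weyl group of a BN-pair -/
abbrev WQ : Type u := ↥P.N ⧸ (P.B ⊓ P.N).subgroupOf P.N

/-- a representative in `G` -/
noncomputable def rep (w : (WQ P)) : G := ((Quotient.out w : ↥P.N) : G)

theorem rep_mem (w : (WQ P)) : rep P w ∈ P.N := (Quotient.out w : ↥P.N).2

theorem mk_eq_iff (x y : ↥P.N) : (QuotientGroup.mk x : (WQ P)) = QuotientGroup.mk y ↔ Eqv P (x : G) y := by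
  rw [QuotientGroup.eq, Subgroup.mem_subgroupOf]
  exact ⟨fun h => h.1, fun h => ⟨h, P.N.mul_mem (P.N.inv_mem x.2) y.2⟩⟩

theorem mk_rep (w : (WQ P)) : (QuotientGroup.mk (⟨rep P w, rep_mem P w⟩ : ↥P.N) : (WQ P)) = w := Quotient.out_eq w

theorem eqv_rep {x : G} (hx : x ∈ P.N) : Eqv P (rep P (QuotientGroup.mk ⟨x, hx⟩)) x :=
  (mk_eq_iff P ⟨_, rep_mem P _⟩ ⟨x, hx⟩).1 (mk_rep P _)

/-- the image of a distinguished generator -/
def sw (s : P.S) : (WQ P) := QuotientGroup.mk ⟨(s : G), P.subset s.2⟩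

/-- the length on the Weyl group -/
noncomputable def lenW (w : (WQ P)) : ℕ := len P (rep P w)

theorem lenW_mk {x : G} (hx : x ∈ P.N) : lenW P (QuotientGroup.mk ⟨x, hx⟩) = len P x :=
  len_congr P (rep_mem P _) hx (eqv_rep P hx)

theorem sw_mul (s : P.S) (w : (WQ P)) :
    sw P s * w = QuotientGroup.mk ⟨(s : G) * rep P w, P.N.mul_mem (P.subset s.2) (rep_mem P w)⟩ := by
  conv_lhs => rw [← mk_rep P w]
  rfl

theorem mul_sw (s : P.S) (w : (WQ P)) :
    w * sw P s = QuotientGroup.mk ⟨rep P w * (s : G), P.N.mul_mem (rep_mem P w) (P.subset s.2)⟩ := by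
  conv_lhs => rw [← mk_rep P w]
  rfl

theorem sw_sq (s : P.S) : sw P s * sw P s = 1 := by
  show QuotientGroup.mk ((⟨(s : G), P.subset s.2⟩ : ↥P.N) * ⟨(s : G), P.subset s.2⟩) = _
  rw [QuotientGroup.eq_one_iff, Subgroup.mem_subgroupOf]
  exact ⟨P.sq_mem s s.2, P.N.mul_mem (P.subset s.2) (P.subset s.2)⟩

theorem lenW_left (s : P.S) (w : (WQ P)) :
    lenW P (sw P s * w) = lenW P w + 1 ∨ lenW P (sw P s * w) + 1 = lenW P w := by
  rw [sw_mul, lenW_mk]
  exact len_mul_cases P s.2 (rep_mem P w)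

theorem lenW_inv_le (w : (WQ P)) : lenW P w⁻¹ ≤ lenW P w := by
  obtain ⟨l, hl, hlen, he⟩ := len_spec P (rep_mem P w)
  have hw : w = QuotientGroup.mk ⟨l.prod, IsWord.mem_N P hl⟩ := by
    conv_lhs => rw [← mk_rep P w]
    exact (mk_eq_iff P _ _).2 he
  have hprod : ∀ m : List G, IsWord P m → Eqv P m.reverse.prod (m.prod)⁻¹ := by
    intro m
    induction m with
    | nil => intro _; simp [Eqv]
    | cons a m ih =>
      intro hm
      have hm' : IsWord P m := fun y hy => hm y (List.mem_cons_of_mem _ hy)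
      have ha : a ∈ P.S := hm a List.mem_cons_self
      have hr : IsWord P m.reverse := fun y hy => hm' y (List.mem_reverse.1 hy)
      rw [List.reverse_cons, List.prod_append, List.prod_singleton, List.prod_cons, _root_.mul_inv_rev]
      have hmN := IsWord.mem_N P hm'
      have h1 : Eqv P (m.reverse.prod * a) (m.prod⁻¹ * a) :=
        Eqv.mul_right (IsWord.mem_N P hr) (P.N.inv_mem hmN) (S_mem P ha) (ih hm')
      refine h1.trans (Eqv.mul_left _ ?_)
      show a⁻¹ * a⁻¹ ∈ P.B
      rw [← _root_.mul_inv_rev]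
      exact P.B.inv_mem (P.sq_mem a ha)
  have hr : IsWord P l.reverse := fun y hy => hl y (List.mem_reverse.1 hy)
  rw [hw, ← QuotientGroup.mk_inv]
  show lenW P (QuotientGroup.mk ⟨(l.prod)⁻¹, P.N.inv_mem (IsWord.mem_N P hl)⟩) ≤ _
  rw [lenW_mk, lenW_mk, len_congr P (IsWord.mem_N P hl) (rep_mem P w) (by
    have := (mk_eq_iff P ⟨_, IsWord.mem_N P hl⟩ ⟨rep P w, rep_mem P w⟩).1 (by rw [← hw, mk_rep]); exact this), ← hlen]
  exact (len_le P hr (hprod l hl).symm).trans (List.length_reverse).le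

theorem lenW_inv (w : (WQ P)) : lenW P w⁻¹ = lenW P w :=
  le_antisymm (lenW_inv_le P w) (by simpa using lenW_inv_le P w⁻¹)

theorem lenW_descent (w : (WQ P)) (h : lenW P w ≠ 0) : ∃ s : P.S, lenW P (sw P s * w) + 1 = lenW P w := by
  obtain ⟨k, hk⟩ : ∃ k, lenW P w = k + 1 := ⟨lenW P w - 1, by omega⟩
  obtain ⟨s, hs, m, hm, hmk, he⟩ := exists_left_decomp P (rep_mem P w) hk
  refine ⟨⟨s, hs⟩, ?_⟩
  rw [sw_mul, lenW_mk]
  have h1 : Eqv P (s * rep P w) m := (Eqv.mul_left s he).trans (Eqv_sq P hs hm)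
  rw [len_congr P (P.N.mul_mem (S_mem P hs) (rep_mem P w)) hm h1, hmk, hk]

theorem lenW_eq_one (w : (WQ P)) (h : lenW P w = 0) : w = 1 := by
  rw [← mk_rep P w, QuotientGroup.eq_one_iff, Subgroup.mem_subgroupOf]
  exact ⟨(len_eq_zero P (rep_mem P w)).1 h, rep_mem P w⟩

theorem lenW_key_up (s t : P.S) (w : (WQ P)) (h1 : lenW P (sw P s * w * sw P t) = lenW P w)
    (h2 : lenW P (w * sw P t) = lenW P w + 1) (h3 : lenW P (sw P s * w) = lenW P w + 1) :
    sw P s * w = w * sw P t := by
  obtain ⟨l, hl, hlen, he⟩ := len_spec P (rep_mem P w)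
  have hw : QuotientGroup.mk (⟨l.prod, IsWord.mem_N P hl⟩ : ↥P.N) = w := by
    conv_rhs => rw [← mk_rep P w]
    exact (mk_eq_iff P _ _).2 he.symm
  set ω := l ++ [(t : G)] with hω
  have hωw : IsWord P ω := fun y hy => by
    rcases List.mem_append.1 hy with hy | hy
    · exact hl y hy
    · rw [List.mem_singleton.1 hy]; exact t.2
  have hωN := IsWord.mem_N P hωw
  have hwt : QuotientGroup.mk (⟨ω.prod, hωN⟩ : ↥P.N) = w * sw P t := by
    rw [← hw]
    show QuotientGroup.mk _ = QuotientGroup.mk ((⟨l.prod, _⟩ : ↥P.N) * ⟨(t : G), _⟩)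
    congr 1
    exact Subtype.ext (by simp [hω])
  have hωlen : len P ω.prod = ω.length := by
    rw [← lenW_mk P hωN, hwt, h2, hω, List.length_append, List.length_singleton, hlen]
    rfl
  have hswt : sw P s * (w * sw P t) =
      QuotientGroup.mk (⟨(s : G) * ω.prod, P.N.mul_mem (P.subset s.2) hωN⟩ : ↥P.N) := by
    rw [← hwt]; rfl
  have hlt : len P ((s : G) * ω.prod) < ω.length := by
    rw [← lenW_mk P (P.N.mul_mem (P.subset s.2) hωN), ← hswt, ← mul_assoc, h1, hω, List.length_append,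
      List.length_singleton, hlen]
    show lenW P w < len P (rep P w) + 1
    exact Nat.lt_succ_self _
  obtain ⟨k, hk, hek⟩ := exchange P s.2 hωw hωlen hlt
  have hek' : sw P s * (w * sw P t) = QuotientGroup.mk (⟨(ω.eraseIdx k).prod,
      IsWord.mem_N P fun y hy => hωw y (List.mem_of_mem_eraseIdx hy)⟩ : ↥P.N) := by
    rw [hswt]; exact (mk_eq_iff P _ _).2 hek
  rw [hω, List.length_append, List.length_singleton] at hk
  by_cases hkl : k < l.length
  · exfalso
    have hl' : IsWord P (l.eraseIdx k) := fun y hy => hl y (List.mem_of_mem_eraseIdx hy)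
    have e : sw P s * w = QuotientGroup.mk (⟨(l.eraseIdx k).prod, IsWord.mem_N P hl'⟩ : ↥P.N) := by
      refine mul_right_cancel (b := sw P t) ?_
      rw [mul_assoc, hek']
      show QuotientGroup.mk _ = QuotientGroup.mk ((⟨(l.eraseIdx k).prod, _⟩ : ↥P.N) * ⟨(t : G), _⟩)
      congr 1
      exact Subtype.ext (by simp [hω, List.eraseIdx_append_of_lt_length hkl])
    have h4 := len_le P (n := (l.eraseIdx k).prod) hl' (Eqv.refl P _)
    rw [← lenW_mk P (IsWord.mem_N P hl'), ← e, h3, List.length_eraseIdx, if_pos hkl, hlen] at h4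
    change lenW P w + 1 ≤ lenW P w - 1 at h4
    omega
  · have hkeq : k = l.length := by omega
    have e : sw P s * (w * sw P t) = w := by
      rw [hek', ← hw]
      congr 1
      exact Subtype.ext (by simp [hω, hkeq, List.eraseIdx_append_of_length_le])
    calc sw P s * w = sw P s * (sw P s * (w * sw P t)) := by rw [e]
      _ = w * sw P t := by rw [← mul_assoc, sw_sq, one_mul]

/-- the length system of the Weyl group -/
noncomputable def lenSys : LenSys (WQ P) P.S where
  f := sw P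
  mul_self := sw_sq P
  len := lenW P
  len_one := by
    show lenW P (QuotientGroup.mk (⟨1, P.N.one_mem⟩ : ↥P.N)) = 0
    rw [lenW_mk]
    exact (len_eq_zero P P.N.one_mem).2 P.B.one_mem
  left_cases := lenW_left P
  len_inv := lenW_inv P
  descent := lenW_descent P
  eq_one := lenW_eq_one P
  key := by
    intro s t w h1 h2
    rcases lenW_left P s w with h3 | h3
    · exact lenW_key_up P s t w h1 (by omega) h3
    · have e : sw P s * (sw P s * w) = w := by rw [← mul_assoc, sw_sq, one_mul]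
      have := lenW_key_up P s t (sw P s * w) (by rw [e]; omega) (by omega) (by rw [e]; omega)
      rw [e] at this
      calc sw P s * w = sw P s * (sw P s * w * sw P t) := by rw [← this]
        _ = w * sw P t := by rw [mul_assoc, ← mul_assoc (sw P s), sw_sq, one_mul]

variable [Finite G] [Fintype (G ⧸ P.B)] [DecidableEq (G ⧸ P.B)] [Fintype (WQ P)] [DecidableEq (WQ P)]

/-- the complex Hecke matrix of a Weyl group element -/
noncomputable def MW (w : (WQ P)) : Matrix (G ⧸ P.B) (G ⧸ P.B) ℂ := (M P (rep P w)).map (Rat.castHom ℂ)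

theorem MW_mk {x : G} (hx : x ∈ P.N) : MW P (QuotientGroup.mk ⟨x, hx⟩) = (M P x).map (Rat.castHom ℂ) := by
  rw [MW, M_congr P (eqv_rep P hx)]

theorem MW_one : MW P 1 = 1 := by
  show MW P (QuotientGroup.mk (⟨1, P.N.one_mem⟩ : ↥P.N)) = 1
  rw [MW_mk, M_one, Matrix.map_one _ (map_zero _) (map_one _)]

theorem MW_gen (s : P.S) : MW P (sw P s) = (M P (s : G)).map (Rat.castHom ℂ) := MW_mk P _

theorem MW_transpose (w : (WQ P)) : (MW P w).transpose = MW P w⁻¹ := by
  conv_rhs => rw [← mk_rep P w, ← QuotientGroup.mk_inv]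
  rw [show ((⟨rep P w, rep_mem P w⟩ : ↥P.N)⁻¹) = ⟨(rep P w)⁻¹, P.N.inv_mem (rep_mem P w)⟩ from rfl, MW_mk, MW,
    ← Matrix.transpose_map]
  congr 1
  classical
  ext i j
  simp only [M, Matrix.transpose_apply, Matrix.of_apply]
  refine if_congr ⟨fun h => ?_, fun h => ?_⟩ rfl rfl
  · have := cell_inv P h
    simpa using this
  · have := cell_inv P h
    simpa using this

theorem MW_left {s : P.S} {w : (WQ P)} (h : lenW P (sw P s * w) = lenW P w + 1) :
    MW P (sw P s) * MW P w = MW P (sw P s * w) := by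
  rw [sw_mul, lenW_mk] at h
  rw [sw_mul, MW_mk, MW_gen, MW, ← Matrix.map_mul, M_mul P s.2 (rep_mem P w) h]

theorem MW_sq (s : P.S) : MW P (sw P s) * MW P (sw P s) =
    ((par P (s : G) : ℂ) - 1) • MW P (sw P s) + (par P (s : G) : ℂ) • (1 : Matrix (G ⧸ P.B) (G ⧸ P.B) ℂ) := by
  rw [MW_gen, ← Matrix.map_mul, M_sq P s.2]
  ext i j
  by_cases h : i = j <;> simp [Matrix.one_apply, h]

theorem MW_row (w : (WQ P)) : ∃ r : ℂ, r ≠ 0 ∧ MW P w *ᵥ (fun _ => (1 : ℂ)) = fun _ => r := by
  induction hw : lenW P w using Nat.strong_induction_on generalizing w with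
  | _ n ih =>
    by_cases h0 : lenW P w = 0
    · exact ⟨1, one_ne_zero, by rw [lenW_eq_one P w h0, MW_one, one_mulVec]⟩
    obtain ⟨s, hs⟩ := lenW_descent P w h0
    obtain ⟨r, hr, he⟩ := ih _ (by omega) _ (rfl : lenW P (sw P s * w) = _)
    have e : sw P s * (sw P s * w) = w := by rw [← mul_assoc, sw_sq, one_mul]
    refine ⟨r * par P (s : G), mul_ne_zero hr (by have := two_le_par P s.2; exact_mod_cast (by omega : par P (s : G) ≠ 0)), ?_⟩
    have h1 : (MW P (sw P s)) *ᵥ (fun _ => (1 : ℂ)) = fun _ => (par P (s : G) : ℂ) := by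
      funext i
      have h2 := congrArg (fun x : ℚ => (x : ℂ)) (congrFun (M_row P (s := (s : G))) i)
      simp only [Matrix.mulVec, dotProduct, mul_one, Rat.cast_sum, Rat.cast_natCast] at h2
      simp only [Matrix.mulVec, dotProduct, MW_gen, Matrix.map_apply, mul_one]
      exact h2
    rw [← e, ← MW_left P (by rw [e]; omega), ← mulVec_mulVec, he,
      show (fun _ : G ⧸ P.B => r) = r • fun _ => (1 : ℂ) by funext i; simp, mulVec_smul, h1]
    funext i
    simp

theorem compat : (lenSys P).Compat fun s : P.S => par P (s : G) := by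
  intro s t w he
  change sw P s * w = w * sw P t at he
  have key : ∀ w : (WQ P), lenW P (sw P s * w) = lenW P w + 1 → sw P s * w = w * sw P t →
      par P (s : G) = par P (t : G) := by
    intro w h he
    obtain ⟨r, hr, hrow⟩ := MW_row P w
    have hright : MW P w * MW P (sw P t) = MW P (w * sw P t) := by
      have h' : lenW P (sw P t * w⁻¹) = lenW P w⁻¹ + 1 := by
        rw [← lenW_inv P (sw P t * w⁻¹), _root_.mul_inv_rev, inv_inv, inv_eq_of_mul_eq_one_right (sw_sq P t), ← he,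
          lenW_inv, h]
      have := congrArg Matrix.transpose (MW_left P h')
      rwa [Matrix.transpose_mul, MW_transpose, MW_transpose, MW_transpose, inv_inv, _root_.mul_inv_rev, inv_inv,
        inv_eq_of_mul_eq_one_right (sw_sq P t)] at this
    have hl := MW_left P h
    rw [he, ← hright] at hl
    have h1 := congrArg (fun X => X *ᵥ (fun _ : G ⧸ P.B => (1 : ℂ))) hl
    have hs : ∀ s : P.S, MW P (sw P s) *ᵥ (fun _ => (1 : ℂ)) = fun _ => (par P (s : G) : ℂ) := fun s => by
      funext i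
      have h2 := congrArg (fun x : ℚ => (x : ℂ)) (congrFun (M_row P (s := (s : G))) i)
      simp only [Matrix.mulVec, dotProduct, mul_one, Rat.cast_sum, Rat.cast_natCast] at h2
      simp only [Matrix.mulVec, dotProduct, MW_gen, Matrix.map_apply, mul_one]
      exact h2
    have hc : ∀ c : ℂ, (fun _ : G ⧸ P.B => c) = c • fun _ => (1 : ℂ) := fun c => by funext i; simp
    simp only [← mulVec_mulVec] at h1
    rw [hrow, hs t, hc r, hc (par P (t : G) : ℂ), mulVec_smul, mulVec_smul, hs s, hrow] at h1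
    have h2 := congrFun h1 ((1 : G) : G ⧸ P.B)
    simp only [Pi.smul_apply, smul_eq_mul] at h2
    have h3 : (par P (s : G) : ℂ) = par P (t : G) := mul_left_cancel₀ hr (by rw [h2]; ring)
    exact_mod_cast h3
  rcases lenW_left P s w with h | h
  · exact key w h he
  · have e : sw P s * (sw P s * w) = w := by rw [← mul_assoc, sw_sq, one_mul]
    refine key (sw P s * w) (by rw [e]; omega) ?_
    rw [e, mul_assoc, ← he, e]

/-- the matrix of a vector of coefficients -/
noncomputable def Phi : ((WQ P) → ℂ) →ₗ[ℂ] Matrix (G ⧸ P.B) (G ⧸ P.B) ℂ where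
  toFun v := ∑ w, v w • MW P w
  map_add' v v' := by simp [add_smul, Finset.sum_add_distrib]
  map_smul' c v := by simp [Finset.smul_sum, smul_smul]

theorem Phi_apply (v : (WQ P) → ℂ) : Phi P v = ∑ w, v w • MW P w := rfl

theorem Phi_dl (w : (WQ P)) : Phi P (LenSys.dl w) = MW P w := by
  rw [Phi_apply, Finset.sum_eq_single w (fun b _ hb => by simp [LenSys.dl, hb]) (by simp)]
  simp [LenSys.dl]

theorem Phi_left (s : P.S) (v : (WQ P) → ℂ) :
    Phi P ((lenSys P).Lm (fun s : P.S => (par P (s : G) : ℂ)) s *ᵥ v) = MW P (sw P s) * Phi P v := by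
  have key : ∀ w, Phi P ((lenSys P).Lm (fun s : P.S => (par P (s : G) : ℂ)) s *ᵥ LenSys.dl w) =
      MW P (sw P s) * MW P w := by
    intro w
    rcases (lenSys P).left_cases s w with h | h
    · rw [(lenSys P).Lm_up _ h, Phi_dl]
      exact (MW_left P h).symm
    · rw [(lenSys P).Lm_down _ h, map_add, map_smul, map_smul, Phi_dl, Phi_dl]
      have e : sw P s * (sw P s * w) = w := by rw [← mul_assoc, sw_sq, one_mul]
      have h1 : MW P (sw P s) * MW P (sw P s * w) = MW P w := by
        rw [MW_left P (by rw [e]; exact h.symm), e]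
      show _ • MW P (sw P s * w) + _ = _
      rw [← h1, ← mul_assoc, MW_sq, add_mul, smul_mul_assoc, smul_mul_assoc, one_mul, h1]
      exact add_comm _ _
  have hv : v = ∑ w, v w • LenSys.dl (R := ℂ) w := by
    funext u; simp [LenSys.dl, Pi.single_apply, Finset.sum_apply]
  rw [hv, mulVec_sum, map_sum, map_sum, Finset.mul_sum]
  refine Finset.sum_congr rfl fun w _ => ?_
  rw [mulVec_smul, map_smul, map_smul, key, Phi_dl, mul_smul_comm]

theorem Phi_transpose (v : (WQ P) → ℂ) : (Phi P v).transpose = Phi P fun w => v w⁻¹ := by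
  rw [Phi_apply, Phi_apply, Matrix.transpose_sum]
  refine Fintype.sum_equiv (Equiv.inv _) _ _ fun w => ?_
  rw [Matrix.transpose_smul, MW_transpose, Equiv.inv_apply, inv_inv]

theorem Phi_right (s : P.S) (v : (WQ P) → ℂ) :
    Phi P ((lenSys P).Rm (fun s : P.S => (par P (s : G) : ℂ)) s *ᵥ v) = Phi P v * MW P (sw P s) := by
  apply Matrix.transpose_injective
  rw [Matrix.transpose_mul, Phi_transpose, Phi_transpose, MW_transpose, inv_eq_of_mul_eq_one_right (sw_sq P s),
    ← Phi_left]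
  congr 1
  funext u
  simp only [Matrix.mulVec, dotProduct]
  refine Fintype.sum_equiv (Equiv.inv _) _ _ fun w => ?_
  rw [Equiv.inv_apply, inv_inv]
  congr 1
  simp only [LenSys.Rm, LenSys.Lm, Matrix.of_apply]
  have hf : ∀ w, lenW P (w * sw P s) = lenW P (sw P s * w⁻¹) := fun w => by
    rw [← lenW_inv P (w * sw P s), _root_.mul_inv_rev, inv_eq_of_mul_eq_one_right (sw_sq P s)]
  have he : u⁻¹ = w * sw P s ↔ u = sw P s * w⁻¹ := by
    rw [inv_eq_iff_eq_inv, _root_.mul_inv_rev, inv_eq_of_mul_eq_one_right (sw_sq P s)]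
  show (if lenW P w < lenW P (w * sw P s) then _ else _) = _
  simp only [hf, ← lenW_inv P w]
  show (if lenW P w⁻¹ < lenW P (sw P s * w⁻¹) then (if u⁻¹ = w * sw P s then (1 : ℂ) else 0) else
    (if u⁻¹ = w * sw P s then (par P (s : G) : ℂ) else 0) + if u⁻¹ = w then (par P (s : G) : ℂ) - 1 else 0) = _
  simp only [he, inv_eq_iff_eq_inv]
  rfl

theorem Phi_injective : Function.Injective (Phi P) := by
  rw [← LinearMap.ker_eq_bot, LinearMap.ker_eq_bot']
  intro v hv
  funext w
  set i0 : G ⧸ P.B := ((1 : G) : G ⧸ P.B)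
  set j := ((i0.out * rep P w : G) : G ⧸ P.B) with hj
  obtain ⟨β, hβ⟩ := QuotientGroup.mk_out_eq_mul P.B (i0.out * rep P w)
  have hmem : i0.out⁻¹ * j.out ∈ cell P (rep P w) := by
    rw [hj, hβ]
    exact (mem_cell P).2 ⟨1, P.B.one_mem, β, β.2, by group⟩
  have h := congrFun (congrFun hv i0) j
  rw [Phi_apply, Matrix.sum_apply, Finset.sum_eq_single w] at h
  · simpa [MW, M, hmem] using h
  · intro u _ hu
    have : i0.out⁻¹ * j.out ∉ cell P (rep P u) := fun h' => hu (by
      rw [← mk_rep P u, ← mk_rep P w, mk_eq_iff]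
      exact eqv_of_mem_cell P (rep_mem P u) (rep_mem P w) h' hmem)
    simp [MW, M, this]
  · simp

theorem out_smul (g : G) (i : G ⧸ P.B) : ∃ β ∈ P.B, (g • i).out = g * i.out * β := by
  obtain ⟨β, hβ⟩ := QuotientGroup.mk_out_eq_mul P.B (g * i.out)
  refine ⟨β, β.2, ?_⟩
  rw [← hβ]
  congr 1
  conv_lhs => rw [← QuotientGroup.out_eq' i]
  rfl

theorem comm_pm_iff [Fintype G] (X : Matrix (G ⧸ P.B) (G ⧸ P.B) ℂ) (g : G) :
    X * pm (Ω := G ⧸ P.B) g = pm g * X ↔ ∀ i j, X (g • i) (g • j) = X i j := by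
  have h1 : ∀ i j, (X * pm g : Matrix (G ⧸ P.B) (G ⧸ P.B) ℂ) i j = X i (g • j) := fun i j => by
    simp [Matrix.mul_apply, pm]
  have h2 : ∀ i j, (pm g * X : Matrix (G ⧸ P.B) (G ⧸ P.B) ℂ) i j = X (g⁻¹ • i) j := fun i j => by
    simp [Matrix.mul_apply, pm, ← eq_inv_smul_iff]
  constructor
  · intro h i j
    rw [← h1, h, h2, inv_smul_smul]
  · intro h
    ext i j
    rw [h1, h2]
    conv_lhs => rw [← smul_inv_smul g i, h]

theorem commutant_iff [Fintype G] (X : Matrix (G ⧸ P.B) (G ⧸ P.B) ℂ) :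
    (∀ g : G, X * pm (Ω := G ⧸ P.B) g = pm g * X) ↔ X ∈ LinearMap.range (Phi P) := by
  classical
  constructor
  · intro hX
    have hinv := fun g => (comm_pm_iff P X g).1 (hX g)
    set i0 : G ⧸ P.B := ((1 : G) : G ⧸ P.B)
    refine ⟨fun w => X i0 ((rep P w : G) : G ⧸ P.B), ?_⟩
    ext i j
    obtain ⟨n, hn, hc⟩ := exists_cell P (i.out⁻¹ * j.out)
    rw [Phi_apply, Matrix.sum_apply, Finset.sum_eq_single (QuotientGroup.mk (⟨n, hn⟩ : ↥P.N))]
    · have he : Eqv P (rep P (QuotientGroup.mk (⟨n, hn⟩ : ↥P.N))) n := eqv_rep P hn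
      have hc' : i.out⁻¹ * j.out ∈ cell P (rep P (QuotientGroup.mk (⟨n, hn⟩ : ↥P.N))) := by rw [he.cell_eq]; exact hc
      rw [Matrix.smul_apply, MW, Matrix.map_apply, M, Matrix.of_apply, if_pos hc', map_one, smul_eq_mul, mul_one]
      obtain ⟨b, hb, c, hc2, e⟩ := (mem_cell P).1 hc'
      set r := rep P (QuotientGroup.mk (⟨n, hn⟩ : ↥P.N))
      rw [← hinv (i.out * b) i0 ((r : G) : G ⧸ P.B)]
      congr 1
      · conv_rhs => rw [← QuotientGroup.out_eq' i]
        show ((i.out * b * 1 : G) : G ⧸ P.B) = _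
        rw [QuotientGroup.eq]
        simpa using hb
      · conv_rhs => rw [← QuotientGroup.out_eq' j]
        show ((i.out * b * r : G) : G ⧸ P.B) = _
        rw [QuotientGroup.eq]
        rw [show (i.out * b * r)⁻¹ * j.out = r⁻¹ * b⁻¹ * (i.out⁻¹ * j.out) by group, e,
          show r⁻¹ * b⁻¹ * (b * r * c) = c by group]
        exact hc2
    · intro u _ hu
      have : i.out⁻¹ * j.out ∉ cell P (rep P u) := fun h' => hu (by
        rw [← mk_rep P u, mk_eq_iff]
        exact eqv_of_mem_cell P (rep_mem P u) hn h' hc)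
      simp [MW, M, this]
    · simp
  · rintro ⟨v, rfl⟩ g
    rw [comm_pm_iff]
    intro i j
    simp only [Phi_apply, Matrix.sum_apply, Matrix.smul_apply]
    refine Finset.sum_congr rfl fun w _ => ?_
    congr 1
    simp only [MW, Matrix.map_apply, M, Matrix.of_apply]
    congr 1
    obtain ⟨β, hβ, e1⟩ := out_smul P g i
    obtain ⟨γ, hγ, e2⟩ := out_smul P g j
    refine if_congr ?_ rfl rfl
    rw [e1, e2, show (g * i.out * β)⁻¹ * (g * j.out * γ) = β⁻¹ * (i.out⁻¹ * j.out) * γ by group]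
    refine ⟨fun h => ?_, fun h => cell_mul_right P hγ (cell_mul_left P (P.B.inv_mem hβ) h)⟩
    have := cell_mul_right P (P.B.inv_mem hγ) (cell_mul_left P hβ h)
    rwa [show β * (β⁻¹ * (i.out⁻¹ * j.out) * γ) * γ⁻¹ = i.out⁻¹ * j.out by group] at this

theorem finrank_dblC [Fintype G] :
    Module.finrank ℂ ↥(dblC (G := G) (Ω := G ⧸ P.B)) = Nat.card (ConjClasses (WQ P)) := by
  haveI : Fintype P.S := Fintype.ofFinite _
  set x := fun s : P.S => (par P (s : G) : ℂ) with hx
  rw [← (lenSys P).finrank_center (fun s : P.S => par P (s : G)) (compat P)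
    (fun s => by have := two_le_par P s.2; omega)]
  have hmap : (LinearMap.ker ((lenSys P).Adm x).mulVecLin).map (Phi P) = dblC (G := G) (Ω := G ⧸ P.B) := by
    have hgen : ∀ z, (∀ s : P.S, MW P (sw P s) * z = z * MW P (sw P s)) → ∀ w : (WQ P), MW P w * z = z * MW P w := by
      intro z hz w
      induction hw : lenW P w using Nat.strong_induction_on generalizing w with
      | _ n ih =>
        by_cases h0 : lenW P w = 0
        · rw [lenW_eq_one P w h0, MW_one, one_mul, mul_one]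
        obtain ⟨s, hs⟩ := lenW_descent P w h0
        have e : sw P s * (sw P s * w) = w := by rw [← mul_assoc, sw_sq, one_mul]
        rw [← e, ← MW_left P (by rw [e]; omega), mul_assoc, ih _ (by omega) _ rfl, ← mul_assoc, hz, mul_assoc]
    ext z
    simp only [Submodule.mem_map, LinearMap.mem_ker, Matrix.mulVecLin_apply, LenSys.Adm_mulVec_eq_zero]
    constructor
    · rintro ⟨v, hv, rfl⟩
      refine ⟨(commutant_iff P _).2 ⟨v, rfl⟩, fun X hX => ?_⟩
      obtain ⟨u, rfl⟩ := (commutant_iff P X).1 hX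
      have hz := hgen (Phi P v) fun s => by rw [← Phi_left, ← Phi_right, hv s]
      simp only [Phi_apply P u, Finset.mul_sum, Finset.sum_mul, mul_smul_comm, smul_mul_assoc, hz]
    · intro hz
      obtain ⟨v, rfl⟩ := (commutant_iff P z).1 hz.1
      refine ⟨v, fun s => Phi_injective P ?_, rfl⟩
      rw [Phi_left, Phi_right]
      exact (hz.2 _ ((commutant_iff P _).2 ⟨LenSys.dl (sw P s), Phi_dl P _⟩)).symm
  rw [← hmap]
  exact (LinearEquiv.finrank_eq (Submodule.equivMapOfInjective _ (Phi_injective P) _)).symm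

omit [Fintype (G ⧸ P.B)] [DecidableEq (G ⧸ P.B)] [Fintype (WQ P)] [DecidableEq (WQ P)] in
/-- the number of constituents of the permutation character on `G/B` -/
theorem card_constituents_borel [Fintype G] :
    Nat.card {χ : Cfsg.IrrCharacter G // ∃ φ : G → ℂ, Cfsg.IsCharacter G φ ∧
      Cfsg.fixedPointCharacter P.B = (χ : G → ℂ) + φ} = Nat.card (ConjClasses (WQ P)) := by
  classical
  letI := Fintype.ofFinite (G ⧸ P.B)
  letI := Fintype.ofFinite (WQ P)
  rw [← finrank_dblC P]
  exact card_constituents (G := G) (Ω := G ⧸ P.B)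

end CfsgLib.Lie.Iwahori
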