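import Cfsg.Agent.Lib.Lie.Iwahori.Family

/-!
# The centre of an Iwahori–Hecke algebra has constant dimension for positive parameters

The Casimir operator maps onto the centre, so two ranks add up to the order of the group; each rank
can only drop at special parameters, so both are constant.
-/

set_option autoImplicit false
set_option linter.unusedSectionVars false

namespace CfsgLib.Lie.Iwahori.LenSys

open Matrix

variable {W : Type*} [Group W] {ι : Type*} (E : LenSys W ι) [Fintype W] [DecidableEq W]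

section general

variable {R : Type*} [CommRing R] (x : ι → R)

/-- a multiple of the inverse weight -/
noncomputable def cf (w : W) : R := ∏ v ∈ Finset.univ.erase w, E.wt x v

theorem cf_step (hx : E.Compat x) {i : ι} {u : W} (h : E.len (E.f i * u) = E.len u + 1) :
    E.cf x u = x i * E.cf x (E.f i * u) := by
  have hne : E.f i * u ≠ u := fun e => by rw [e] at h; omega
  rw [cf, cf, ← Finset.mul_prod_erase _ _ (Finset.mem_erase.2 ⟨hne, Finset.mem_univ _⟩),
    ← Finset.mul_prod_erase (Finset.univ.erase (E.f i * u)) _ (Finset.mem_erase.2 ⟨hne.symm, Finset.mem_univ u⟩),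
    Finset.erase_right_comm, E.wt_left x hx h, mul_assoc]

/-- the Casimir operator -/
noncomputable def cas (Y : Matrix W W R) : Matrix W W R :=
  ∑ w, E.cf x w • (E.Tm x w * Y * E.Tm x w⁻¹)

theorem cas_comm (hx : E.Compat x) (Y : Matrix W W R) (i : ι) :
    E.Lm x i * E.cas x Y = E.cas x Y * E.Lm x i := by
  have hpair : ∀ u : W, E.len (E.f i * u) = E.len u + 1 →
      (E.Lm x i * (E.cf x u • (E.Tm x u * Y * E.Tm x u⁻¹)) -
          E.cf x u • (E.Tm x u * Y * E.Tm x u⁻¹) * E.Lm x i) +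
        (E.Lm x i * (E.cf x (E.f i * u) • (E.Tm x (E.f i * u) * Y * E.Tm x (E.f i * u)⁻¹)) -
          E.cf x (E.f i * u) • (E.Tm x (E.f i * u) * Y * E.Tm x (E.f i * u)⁻¹) * E.Lm x i) = 0 := by
    intro u h
    have e : (E.f i * u)⁻¹ = u⁻¹ * E.f i := by rw [_root_.mul_inv_rev, E.inv_f]
    have hl : E.len (u⁻¹ * E.f i) = E.len u⁻¹ + 1 := by rw [← e, E.len_inv, E.len_inv]; exact h
    have h1 := E.Tm_left x hx h
    have h2 := E.Tm_right x hx hl
    have h3 := E.Tm_left_down x hx (i := i) (w := E.f i * u) (by rw [E.f_f]; omega)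
    have h4 := E.Tm_right_down x hx (j := i) (w := u⁻¹ * E.f i) (by rw [E.ff_right]; omega)
    rw [E.f_f] at h3
    rw [E.ff_right] at h4
    rw [e, mul_smul_comm, mul_smul_comm, smul_mul_assoc, smul_mul_assoc, ← mul_assoc (E.Lm x i),
      ← mul_assoc (E.Lm x i), h1, mul_assoc _ _ (E.Lm x i), h2, ← mul_assoc (E.Lm x i), ← mul_assoc (E.Lm x i),
      h3, mul_assoc _ _ (E.Lm x i), h4, E.cf_step x hx h]
    simp only [add_mul, mul_add, smul_mul_assoc, mul_smul_comm, smul_add, smul_smul, mul_comm (x i)]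
    abel
  rw [← sub_eq_zero, cas, Finset.mul_sum, Finset.sum_mul, ← Finset.sum_sub_distrib]
  refine Finset.sum_involution (fun w _ => E.f i * w) (fun w _ => ?_) (fun w _ _ e => ?_)
    (fun w _ => Finset.mem_univ _) (fun w _ => E.f_f i w)
  · rcases E.left_cases i w with h | h
    · exact hpair w h
    · have := hpair (E.f i * w) (by rw [E.f_f]; omega)
      rw [E.f_f] at this
      rwa [add_comm]
  · have h1 : E.f i = 1 := mul_eq_right.1 e
    have := E.len_f i
    rw [h1, E.len_one] at this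
    omega

theorem cas_Rm (hx : E.Compat x) {Y : Matrix W W R} (hY : ∀ j, Y * E.Rm x j = E.Rm x j * Y) (j : ι) :
    E.cas x Y * E.Rm x j = E.Rm x j * E.cas x Y := by
  simp only [cas, Finset.sum_mul, Finset.mul_sum, smul_mul_assoc, mul_smul_comm]
  refine Finset.sum_congr rfl fun w _ => ?_
  congr 1
  rw [mul_assoc, E.Tm_Rm x hx, ← mul_assoc, mul_assoc (E.Tm x w) Y, hY, ← mul_assoc, E.Tm_Rm x hx]
  simp only [mul_assoc]

/-- the Casimir map on coefficient vectors -/
noncomputable def Cm : Matrix W W R := Matrix.of fun u a => (E.cas x (E.Tm x a) *ᵥ dl 1) u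

theorem Cm_mulVec (v : W → R) : E.Cm x *ᵥ v = E.cas x (E.lam x v) *ᵥ dl 1 := by
  have e : E.cas x (E.lam x v) = ∑ a, v a • E.cas x (E.Tm x a) := by
    simp only [cas, lam, Finset.mul_sum, Finset.sum_mul, Finset.smul_sum, mul_smul_comm, smul_mul_assoc]
    rw [Finset.sum_comm]
    exact Finset.sum_congr rfl fun a _ => Finset.sum_congr rfl fun w _ => smul_comm _ _ _
  funext u
  rw [e, sum_mulVec]
  simp only [smul_mulVec, Finset.sum_apply, Pi.smul_apply, smul_eq_mul]
  simp only [Matrix.mulVec, dotProduct, Cm, Matrix.of_apply]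
  exact Finset.sum_congr rfl fun a _ => mul_comm _ _

/-- the commutator map with the generators -/
def Adm : Matrix (ι × W) W R := Matrix.of fun p a => (E.Lm x p.1 - E.Rm x p.1) p.2 a

theorem Adm_mulVec_eq_zero (v : W → R) : E.Adm x *ᵥ v = 0 ↔ ∀ i, E.Lm x i *ᵥ v = E.Rm x i *ᵥ v := by
  have e : ∀ i u, (E.Adm x *ᵥ v) (i, u) = ((E.Lm x i - E.Rm x i) *ᵥ v) u := fun i u => rfl
  constructor
  · intro h i
    rw [← sub_eq_zero, ← sub_mulVec]
    funext u
    rw [← e, h]
    rfl
  · intro h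
    funext p
    rw [show p = (p.1, p.2) from rfl, e, sub_mulVec, h, sub_self]
    rfl

theorem central_iff (hx : E.Compat x) (v : W → R) (i : ι) :
    E.Lm x i *ᵥ v = E.Rm x i *ᵥ v ↔ E.Lm x i * E.lam x v = E.lam x v * E.Lm x i := by
  have h1 : (E.Lm x i * E.lam x v) *ᵥ dl 1 = E.Lm x i *ᵥ v := by rw [← mulVec_mulVec, E.lam_dl x hx]
  have h2 : (E.lam x v * E.Lm x i) *ᵥ dl 1 = E.Rm x i *ᵥ v := by
    rw [← mulVec_mulVec, E.Lm_Rm_one, mulVec_mulVec, E.lam_Rm x hx, ← mulVec_mulVec, E.lam_dl x hx]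
  refine ⟨fun h => E.eq_of_dl x (fun j => ?_) (fun j => ?_) (by rw [h1, h2, h]), fun h => by rw [← h1, h, h2]⟩
  · rw [mul_assoc, E.lam_Rm x hx, ← mul_assoc, E.LR_comm x hx, mul_assoc]
  · rw [mul_assoc, E.LR_comm x hx, ← mul_assoc, E.lam_Rm x hx, mul_assoc]

theorem comm_Tm (hx : E.Compat x) {Y : Matrix W W R} (hY : ∀ i, E.Lm x i * Y = Y * E.Lm x i) :
    ∀ n w, E.len w = n → E.Tm x w * Y = Y * E.Tm x w := by
  intro n
  induction n using Nat.strong_induction_on with
  | _ n ih =>
    intro w hw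
    rw [Tm]
    split_ifs with h
    · rw [one_mul, mul_one]
    · have := (E.descent w h).choose_spec
      rw [mul_assoc, ih _ (by omega) _ rfl, ← mul_assoc, hY, mul_assoc]

theorem Cm_central (hx : E.Compat x) (v : W → R) (hv : E.Adm x *ᵥ v = 0) :
    E.Cm x *ᵥ v = E.cas x 1 *ᵥ v := by
  have hY := fun i => (E.central_iff x hx v i).1 ((E.Adm_mulVec_eq_zero x v).1 hv i)
  rw [E.Cm_mulVec]
  have e : E.cas x (E.lam x v) = E.cas x 1 * E.lam x v := by
    simp only [cas, Finset.sum_mul, smul_mul_assoc, mul_one]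
    refine Finset.sum_congr rfl fun w _ => ?_
    rw [mul_assoc (E.Tm x w), mul_assoc (E.Tm x w), E.comm_Tm x hx hY _ w⁻¹ rfl]
  rw [e, ← mulVec_mulVec, E.lam_dl x hx]

theorem Adm_mul_Cm (hx : E.Compat x) : E.Adm x * E.Cm x = 0 := by
  refine Matrix.ext_iff_mulVec.2 fun v => ?_
  rw [← mulVec_mulVec, zero_mulVec, E.Adm_mulVec_eq_zero]
  intro i
  refine (E.central_iff x hx _ i).2 ?_
  have e : E.lam x (E.Cm x *ᵥ v) = E.cas x (E.lam x v) :=
    E.eq_of_dl x (E.lam_Rm x hx _) (E.cas_Rm x hx (E.lam_Rm x hx v)) (by rw [E.lam_dl x hx, E.Cm_mulVec])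
  rw [e, E.cas_comm x hx]

section map

variable {R' : Type*} [CommRing R'] (φ : R →+* R')

theorem Lm_map (i : ι) : (E.Lm x i).map φ = E.Lm (φ ∘ x) i := by
  ext u w
  simp only [Lm, Matrix.map_apply, Matrix.of_apply, Function.comp_apply]
  split_ifs <;> simp

theorem Rm_map (i : ι) : (E.Rm x i).map φ = E.Rm (φ ∘ x) i := by
  ext u w
  simp only [Rm, Matrix.map_apply, Matrix.of_apply, Function.comp_apply]
  split_ifs <;> simp

theorem Tm_map : ∀ n w, E.len w = n → (E.Tm x w).map φ = E.Tm (φ ∘ x) w := by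
  intro n
  induction n using Nat.strong_induction_on with
  | _ n ih =>
    intro w hw
    rw [Tm, Tm]
    split_ifs with h
    · exact Matrix.map_one φ (map_zero φ) (map_one φ)
    · have := (E.descent w h).choose_spec
      rw [Matrix.map_mul, ih _ (by omega) _ rfl, E.Lm_map]

theorem cas_map (Y : Matrix W W R) : (E.cas x Y).map φ = E.cas (φ ∘ x) (Y.map φ) := by
  have hc : ∀ w, φ (E.cf x w) = E.cf (φ ∘ x) w := fun w => by
    simp only [cf, map_prod]
    exact Finset.prod_congr rfl fun v _ => E.wt_map x φ _ v rfl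
  rw [← RingHom.mapMatrix_apply, cas, map_sum, cas]
  refine Finset.sum_congr rfl fun w _ => ?_
  rw [← hc, ← E.Tm_map x φ _ w rfl, ← E.Tm_map x φ _ w⁻¹ rfl, RingHom.mapMatrix_apply, ← Matrix.map_mul,
    ← Matrix.map_mul]
  ext u a
  simp only [Matrix.map_apply, Matrix.smul_apply, smul_eq_mul, map_mul]

theorem Cm_map : (E.Cm x).map φ = E.Cm (φ ∘ x) := by
  ext u a
  simp only [Cm, Matrix.map_apply, Matrix.of_apply, mulVec_dl, ← E.Tm_map x φ _ a rfl, ← E.cas_map]

theorem Adm_map : (E.Adm x).map φ = E.Adm (φ ∘ x) := by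
  ext p a
  simp only [Adm, Matrix.map_apply, Matrix.of_apply, Matrix.sub_apply, map_sub, ← E.Lm_map x φ, ← E.Rm_map x φ]

end map

end general

section positive

variable {x : ι → ℝ}

theorem Lm_transpose (hx : E.Compat x) (i : ι) :
    (E.Lm x i).transpose * diagonal (E.wt x) = diagonal (E.wt x) * E.Lm x i := by
  ext u w
  rw [mul_diagonal, diagonal_mul, transpose_apply]
  simp only [Lm, Matrix.of_apply]
  rcases eq_or_ne u (E.f i * w) with rfl | hne
  · have hne : E.f i * w ≠ w := fun e => by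
      have h1 : E.f i = 1 := mul_eq_right.1 e
      have := E.len_f i
      rw [h1, E.len_one] at this
      omega
    rw [E.f_f]
    rcases E.left_cases i w with h | h
    · rw [if_neg (show ¬ E.len (E.f i * w) < E.len w by omega),
        if_pos (show E.len w < E.len (E.f i * w) by omega)]
      simp [hne.symm, E.wt_left x hx h, mul_comm]
    · have h' := E.wt_left x hx (i := i) (w := E.f i * w) (by rw [E.f_f]; omega)
      rw [E.f_f] at h'
      rw [if_pos (show E.len (E.f i * w) < E.len w by omega),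
        if_neg (show ¬ E.len w < E.len (E.f i * w) by omega)]
      simp [hne, h', mul_comm]
  · have hne' : w ≠ E.f i * u := fun e => hne (by rw [e, E.f_f])
    rcases eq_or_ne u w with rfl | huw
    · simp only [if_neg hne, zero_add, if_pos]
      exact mul_comm _ _
    · simp [hne, hne', huw, Ne.symm huw]

theorem Tm_transpose (hx : E.Compat x) : ∀ n w, E.len w = n →
    (E.Tm x w).transpose * diagonal (E.wt x) = diagonal (E.wt x) * E.Tm x w⁻¹ := by
  intro n
  induction n using Nat.strong_induction_on with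
  | _ n ih =>
    intro w hw
    by_cases h : E.len w = 0
    · rw [E.eq_one w h, inv_one]
      have h1 : E.Tm x 1 = 1 := by rw [Tm, dif_pos E.len_one]
      rw [h1, transpose_one, one_mul, mul_one]
    · obtain ⟨i, hi⟩ := E.descent w h
      have e : w⁻¹ = (E.f i * w)⁻¹ * E.f i := by rw [_root_.mul_inv_rev, E.inv_f, E.ff_right]
      have hl : E.len ((E.f i * w)⁻¹ * E.f i) = E.len (E.f i * w)⁻¹ + 1 := by
        rw [← e, E.len_inv, E.len_inv]; omega
      have h2 := E.Tm_left x hx (i := i) (w := E.f i * w) (by rw [E.f_f]; omega)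
      rw [E.f_f] at h2
      rw [e, ← E.Tm_right x hx hl, ← h2, transpose_mul, mul_assoc, E.Lm_transpose hx, ← mul_assoc,
        ih _ (by omega) _ rfl, mul_assoc]

theorem cas_one_injective (hx : E.Compat x) (hpos : ∀ i, 0 < x i) (v : W → ℝ)
    (hv : E.cas x 1 *ᵥ v = 0) : v = 0 := by
  have hwt : ∀ w, 0 < E.wt x w := fun w => E.wt_pos hpos _ w rfl
  have hc : ∀ w, 0 < E.cf x w := fun w => Finset.prod_pos fun u _ => hwt u
  have hterm : ∀ w, v ⬝ᵥ (diagonal (E.wt x) *ᵥ ((E.Tm x w * 1 * E.Tm x w⁻¹) *ᵥ v)) =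
      ∑ u, E.wt x u * ((E.Tm x w⁻¹ *ᵥ v) u) ^ 2 := by
    intro w
    rw [mul_one, ← mulVec_mulVec, mulVec_mulVec _ (diagonal _) (E.Tm x w)]
    have h := E.Tm_transpose hx _ w⁻¹ rfl
    rw [inv_inv] at h
    rw [← h, dotProduct_mulVec, ← vecMul_vecMul, vecMul_transpose, ← dotProduct_mulVec]
    simp only [dotProduct, mulVec_diagonal]
    exact Finset.sum_congr rfl fun u _ => by ring
  have h0 : ∑ w, E.cf x w * ∑ u, E.wt x u * ((E.Tm x w⁻¹ *ᵥ v) u) ^ 2 = 0 := by
    have h := congrArg (fun y => v ⬝ᵥ (diagonal (E.wt x) *ᵥ y)) hv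
    simp only [mulVec_zero, dotProduct_zero, cas, sum_mulVec, smul_mulVec, mulVec_sum, mulVec_smul,
      dotProduct_sum, dotProduct_smul, smul_eq_mul, hterm] at h
    exact h
  have hn : ∀ w u, 0 ≤ E.wt x u * ((E.Tm x w⁻¹ *ᵥ v) u) ^ 2 := fun w u =>
    mul_nonneg (hwt u).le (sq_nonneg _)
  have h1 := (Finset.sum_eq_zero_iff_of_nonneg fun w _ =>
    mul_nonneg (hc w).le (Finset.sum_nonneg fun u _ => hn w u)).1 h0 1 (Finset.mem_univ _)
  funext u
  have h2 := (Finset.sum_eq_zero_iff_of_nonneg fun u _ => hn 1 u).1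
    ((mul_eq_zero.1 h1).resolve_left (hc 1).ne') u (Finset.mem_univ _)
  have h3 := (mul_eq_zero.1 h2).resolve_left (hwt u).ne'
  rw [inv_one, Tm, dif_pos E.len_one, one_mulVec] at h3
  simpa using h3

end positive

variable [Fintype ι]

/-- at positive parameters the centre is the image of the Casimir map -/
theorem rank_add_rank (xr : ι → ℝ) (hxr : E.Compat xr) (hpos : ∀ i, 0 < xr i) :
    (E.Adm (fun i => (xr i : ℂ))).rank + (E.Cm (fun i => (xr i : ℂ))).rank = Fintype.card W := by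
  set x : ι → ℂ := fun i => (xr i : ℂ) with hxdef
  have hx : E.Compat x := fun i j w h => by rw [hxdef]; simp only; rw [hxr i j w h]
  have hK : IsUnit (E.cas x 1).det := by
    have e : (E.cas xr 1).map Complex.ofRealHom = E.cas x 1 := by
      rw [E.cas_map, Matrix.map_one _ (map_zero _) (map_one _)]; rfl
    have hdet : (E.cas xr 1).det ≠ 0 := fun h => by
      obtain ⟨v, hv, hv0⟩ := Matrix.exists_mulVec_eq_zero_iff.2 h
      exact hv (E.cas_one_injective hxr hpos v hv0)
    rw [← e, isUnit_iff_ne_zero, ← RingHom.mapMatrix_apply, ← RingHom.map_det]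
    exact fun h => hdet (Complex.ofRealHom.injective (h.trans (map_zero _).symm))
  have hker : LinearMap.ker (E.Adm x).mulVecLin = LinearMap.range (E.Cm x).mulVecLin := by
    ext z
    constructor
    · intro hz
      rw [LinearMap.mem_ker, mulVecLin_apply] at hz
      obtain ⟨v, hv⟩ : ∃ v, v = (E.cas x 1)⁻¹ *ᵥ z := ⟨_, rfl⟩
      have hKv : E.cas x 1 *ᵥ v = z := by rw [hv, mulVec_mulVec, Matrix.mul_nonsing_inv _ hK, one_mulVec]
      have hinj : Function.Injective fun u => E.cas x 1 *ᵥ u := fun u u' h => by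
        have h1 := congrArg (fun y => (E.cas x 1)⁻¹ *ᵥ y) h
        simpa [mulVec_mulVec, Matrix.nonsing_inv_mul _ hK] using h1
      refine ⟨v, ?_⟩
      rw [mulVecLin_apply, E.Cm_central x hx v ?_, hKv]
      rw [E.Adm_mulVec_eq_zero] at hz ⊢
      intro i
      apply hinj
      show E.cas x 1 *ᵥ _ = E.cas x 1 *ᵥ _
      rw [mulVec_mulVec, mulVec_mulVec, ← E.cas_comm x hx 1 i,
        E.cas_Rm x hx (fun j => by rw [one_mul, mul_one]) i, ← mulVec_mulVec, ← mulVec_mulVec, hKv, hz i]
    · rintro ⟨v, rfl⟩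
      rw [LinearMap.mem_ker, mulVecLin_apply, mulVecLin_apply, mulVec_mulVec, E.Adm_mul_Cm x hx, zero_mulVec]
  have h := LinearMap.finrank_range_add_finrank_ker (E.Adm x).mulVecLin
  rw [hker, Module.finrank_fintype_fun_eq_card] at h
  exact h

end CfsgLib.Lie.Iwahori.LenSys
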