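import Cfsg.Agent.Lib.Lie.Iwahori.BNCentre
import Cfsg.Agent.Lib.Lie.Chev.Borel

/-!
# Constituents of the permutation character on the cosets of the Borel subgroup of a Chevalley group
-/

set_option autoImplicit false
set_option linter.style.haveILetI false

namespace CfsgLib.Lie.Iwahori

open Cfsg.Lie CfsgLib.Lie.Chev
open scoped MatrixGroups

variable {D : ChevalleyDatum} {K : Type*} [Field K] (C : Full D)

theorem exists_weyl_hom : ∃ φ : ↥(C.bnPair (K := K)).N →* C.G.Wg,
    Function.Surjective φ ∧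
      φ.ker = ((C.bnPair (K := K)).B ⊓ (C.bnPair (K := K)).N).subgroupOf (C.bnPair (K := K)).N := by
  have h : ∀ n : ↥(C.bnPair (K := K)).N, ∃ w : C.G.Wg,
      C.G.NPerm ((n : ↥(D.group K)) : GL D.Idx K) (w : Equiv.Perm (Fin D.nroots)) := fun n => by
    obtain ⟨l, hl⟩ := C.G.exists_nPerm (K := K) (n := ((n : ↥(D.group K)) : GL D.Idx K)) n.2
    exact ⟨⟨_, C.G.pw_mem l⟩, hl⟩
  choose f hf using h
  have hmul : ∀ a b, f (a * b) = f a * f b := fun a b =>
    Subtype.ext (Good.NPerm.unique C.G (hf (a * b)) (by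
      simpa using Good.NPerm.mul C.G (hf a) (hf b)))
  refine ⟨MonoidHom.mk' f hmul, ?_, ?_⟩
  · rintro ⟨v, hv⟩
    obtain ⟨l, rfl⟩ := C.G.exists_pw hv
    refine ⟨⟨⟨C.G.nw l, C.G.monomial_le_group (C.G.nw_mem_monomial l)⟩, C.G.nw_mem_monomial l⟩, ?_⟩
    exact Subtype.ext (Good.NPerm.unique C.G (hf _) (C.G.nPerm_nw l))
  · ext n
    have hn : ((n : ↥(D.group K)) : GL D.Idx K) ∈ D.monomialSubgroup K := n.2
    rw [MonoidHom.mem_ker, Subgroup.mem_subgroupOf, Subgroup.mem_inf]
    constructor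
    · intro h1
      refine ⟨?_, n.2⟩
      have hp := hf n
      rw [show f n = 1 from h1] at hp
      exact Subgroup.mem_sup_right (C.G.mem_H_of_nPerm_one hn hp)
    · rintro ⟨hB, -⟩
      have hH : ((n : ↥(D.group K)) : GL D.Idx K) ∈ D.diagonalSubgroup K :=
        C.G.B_inf_N (K := K) ▸ Subgroup.mem_inf.2 ⟨hB, hn⟩
      exact Subtype.ext (Good.NPerm.unique C.G (hf n) (C.G.nPerm_H hH))

theorem card_conjClasses_congr {A B : Type*} [Group A] [Group B] (e : A ≃* B) :
    Nat.card (ConjClasses A) = Nat.card (ConjClasses B) :=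
  Nat.card_congr (Equiv.ofBijective (ConjClasses.map e.toMonoidHom)
    ⟨fun a b hab => by
      obtain ⟨a, rfl⟩ := ConjClasses.mk_surjective a
      obtain ⟨b, rfl⟩ := ConjClasses.mk_surjective b
      obtain ⟨c, hc⟩ := isConj_iff.mp (ConjClasses.mk_eq_mk_iff_isConj.mp hab)
      refine ConjClasses.mk_eq_mk_iff_isConj.mpr (isConj_iff.mpr ⟨e.symm c, e.injective ?_⟩)
      simpa [map_mul, map_inv] using hc, ConjClasses.map_surjective e.surjective⟩)

theorem card_constituents_chev [Fintype K] :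
    Nat.card {χ : Cfsg.IrrCharacter ↥(D.group K) // ∃ φ : ↥(D.group K) → ℂ,
      Cfsg.IsCharacter ↥(D.group K) φ ∧
        Cfsg.fixedPointCharacter ((D.borelSubgroup K).subgroupOf (D.group K)) = (χ : ↥(D.group K) → ℂ) + φ} =
      Nat.card (ConjClasses C.G.Wg) := by
  obtain ⟨φ, hφ, hker⟩ := exists_weyl_hom (K := K) C
  let P := C.bnPair (K := K)
  haveI hN : ((P.B ⊓ P.N).subgroupOf P.N).Normal := hker ▸ φ.normal_ker
  haveI : Finite ↥(D.group K) := inferInstance
  letI := Fintype.ofFinite ↥(D.group K)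
  let e : WQ P ≃* C.G.Wg :=
    (QuotientGroup.quotientMulEquivOfEq hker.symm).trans (QuotientGroup.quotientKerEquivOfSurjective φ hφ)
  refine (card_constituents_borel P).trans ?_
  exact card_conjClasses_congr e

end CfsgLib.Lie.Iwahori
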