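import Mathlib

/-!
# Iwahori–Hecke algebras with arbitrary parameters, as operators on functions on the group

A finite group with a length function for a set of involutions, satisfying the deletion consequence
`f i * w = w * f j`, gives commuting left and right operators. Their commutant is the Hecke algebra.
-/

set_option autoImplicit false
set_option linter.unusedSectionVars false

namespace CfsgLib.Lie.Iwahori

open Matrix

/-- a length function for generating involutions -/
structure LenSys (W : Type*) [Group W] (ι : Type*) where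
  f : ι → W
  mul_self : ∀ i, f i * f i = 1
  len : W → ℕ
  len_one : len 1 = 0
  left_cases : ∀ i w, len (f i * w) = len w + 1 ∨ len (f i * w) + 1 = len w
  len_inv : ∀ w, len w⁻¹ = len w
  descent : ∀ w, len w ≠ 0 → ∃ i, len (f i * w) + 1 = len w
  eq_one : ∀ w, len w = 0 → w = 1
  key : ∀ i j w, len (f i * w * f j) = len w → len (f i * w) = len (w * f j) → f i * w = w * f j

namespace LenSys

variable {W : Type*} [Group W] {ι : Type*} (E : LenSys W ι)

theorem inv_f (i : ι) : (E.f i)⁻¹ = E.f i := inv_eq_of_mul_eq_one_right (E.mul_self i)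

theorem f_f (i : ι) (w : W) : E.f i * (E.f i * w) = w := by rw [← mul_assoc, E.mul_self, one_mul]

theorem ff_right (j : ι) (w : W) : w * E.f j * E.f j = w := by rw [mul_assoc, E.mul_self, mul_one]

theorem right_cases (j : ι) (w : W) : E.len (w * E.f j) = E.len w + 1 ∨ E.len (w * E.f j) + 1 = E.len w := by
  rw [← E.len_inv (w * E.f j), _root_.mul_inv_rev, E.inv_f, ← E.len_inv w]
  exact E.left_cases j w⁻¹

theorem len_f (i : ι) : E.len (E.f i) = 1 := by
  have := E.left_cases i 1
  rw [mul_one, E.len_one] at this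
  omega

theorem descent_right {w : W} (h : E.len w ≠ 0) : ∃ j, E.len (w * E.f j) + 1 = E.len w := by
  obtain ⟨i, hi⟩ := E.descent w⁻¹ (by rwa [E.len_inv])
  exact ⟨i, by rwa [← E.len_inv (w * E.f i), _root_.mul_inv_rev, E.inv_f, ← E.len_inv w]⟩

/-- parameters constant along conjugation of generators -/
def Compat {R : Type*} (x : ι → R) : Prop := ∀ i j w, E.f i * w = w * E.f j → x i = x j

section weight

variable {R : Type*} [CommRing R] (x : ι → R)

/-- the weight of `w`, the product of the parameters along a reduced word -/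
noncomputable def wt (w : W) : R :=
  if h : E.len w = 0 then 1 else x (E.descent w h).choose * wt (E.f (E.descent w h).choose * w)
termination_by E.len w
decreasing_by
  have := (E.descent w h).choose_spec
  omega

theorem wt_one : E.wt x 1 = 1 := by rw [wt, dif_pos E.len_one]

theorem wt_cases (hx : E.Compat x) : ∀ n w, E.len w = n →
    (∀ i, E.len (E.f i * w) + 1 = n → E.wt x w = x i * E.wt x (E.f i * w)) ∧
      ∀ j, E.len (w * E.f j) + 1 = n → E.wt x w = x j * E.wt x (w * E.f j) := by
  intro n
  induction n using Nat.strong_induction_on with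
  | _ n ih =>
    intro w hw
    have hlr : ∀ i j, E.len (E.f i * w) + 1 = n → E.len (w * E.f j) + 1 = n →
        x i * E.wt x (E.f i * w) = x j * E.wt x (w * E.f j) := by
      intro i j hi hj
      by_cases he : E.f i * w = w * E.f j
      · rw [hx i j w he, he]
      · have hne : E.len (E.f i * w * E.f j) ≠ E.len w := fun h => he (E.key i j w h (by omega))
        have h1 := E.right_cases j (E.f i * w)
        rw [(ih (E.len (E.f i * w)) (by omega) _ rfl).2 j (by omega),
          (ih (E.len (w * E.f j)) (by omega) _ rfl).1 i (by rw [← mul_assoc]; omega), mul_assoc (E.f i)]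
        ring
    by_cases h0 : E.len w = 0
    · exact ⟨fun i hi => by omega, fun j hj => by omega⟩
    have hdef : E.wt x w = x (E.descent w h0).choose * E.wt x (E.f (E.descent w h0).choose * w) := by
      rw [wt, dif_neg h0]
    have hc := (E.descent w h0).choose_spec
    obtain ⟨j0, hj0⟩ := E.descent_right h0
    refine ⟨fun i hi => ?_, fun j hj => ?_⟩
    · rw [hdef, hlr _ j0 (by omega) (by omega), ← hlr i j0 hi (by omega)]
    · rw [hdef, hlr _ j (by omega) hj]

theorem wt_left (hx : E.Compat x) {i : ι} {w : W} (h : E.len (E.f i * w) = E.len w + 1) :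
    E.wt x (E.f i * w) = x i * E.wt x w := by
  have := (E.wt_cases x hx _ (E.f i * w) rfl).1 i (by rw [E.f_f]; omega)
  rwa [E.f_f] at this

theorem wt_inv (hx : E.Compat x) : ∀ n w, E.len w = n → E.wt x w⁻¹ = E.wt x w := by
  intro n
  induction n using Nat.strong_induction_on with
  | _ n ih =>
    intro w hw
    by_cases h0 : E.len w = 0
    · rw [E.eq_one w h0, inv_one]
    obtain ⟨i, hi⟩ := E.descent w h0
    have e : w⁻¹ * E.f i = (E.f i * w)⁻¹ := by rw [_root_.mul_inv_rev, E.inv_f]
    rw [(E.wt_cases x hx _ w rfl).1 i hi,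
      (E.wt_cases x hx _ w⁻¹ rfl).2 i (by rw [e, E.len_inv, E.len_inv]; omega), e, ih _ (by omega) _ rfl]

theorem wt_map {R' : Type*} [CommRing R'] (φ : R →+* R') : ∀ n w, E.len w = n →
    φ (E.wt x w) = E.wt (φ ∘ x) w := by
  intro n
  induction n using Nat.strong_induction_on with
  | _ n ih =>
    intro w hw
    rw [wt, wt]
    split_ifs with h
    · exact map_one φ
    · have := (E.descent w h).choose_spec
      rw [map_mul, ih _ (by omega) _ rfl, Function.comp_apply]

theorem wt_pos {R : Type*} [CommRing R] [LinearOrder R] [IsStrictOrderedRing R] {x : ι → R}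
    (hpos : ∀ i, 0 < x i) : ∀ n w, E.len w = n → 0 < E.wt x w := by
  intro n
  induction n using Nat.strong_induction_on with
  | _ n ih =>
    intro w hw
    rw [wt]
    split_ifs with h
    · exact one_pos
    · have := (E.descent w h).choose_spec
      exact mul_pos (hpos _) (ih _ (by omega) _ rfl)

end weight

section operators

variable [Fintype W] [DecidableEq W] {R : Type*} [CommRing R] (x : ι → R)

/-- left multiplication by a generator -/
def Lm (i : ι) : Matrix W W R :=
  Matrix.of fun u w => if E.len w < E.len (E.f i * w) then (if u = E.f i * w then 1 else 0)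
    else (if u = E.f i * w then x i else 0) + (if u = w then x i - 1 else 0)

/-- right multiplication by a generator -/
def Rm (j : ι) : Matrix W W R :=
  Matrix.of fun u w => if E.len w < E.len (w * E.f j) then (if u = w * E.f j then 1 else 0)
    else (if u = w * E.f j then x j else 0) + (if u = w then x j - 1 else 0)

/-- the basis vector -/
def dl (w : W) : W → R := Pi.single w 1

theorem mulVec_dl (A : Matrix W W R) (w : W) : A *ᵥ dl w = fun u => A u w := by
  funext u
  simp [Matrix.mulVec, dotProduct, dl, Pi.single_apply]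

theorem ext_dl {A B : Matrix W W R} (h : ∀ w, A *ᵥ dl w = B *ᵥ dl w) : A = B := by
  ext u w
  have := congrFun (h w) u
  rwa [mulVec_dl, mulVec_dl] at this

theorem Lm_up {i : ι} {w : W} (h : E.len (E.f i * w) = E.len w + 1) :
    E.Lm x i *ᵥ dl w = dl (E.f i * w) := by
  funext u
  rw [mulVec_dl]
  simp only [Lm, Matrix.of_apply]
  rw [if_pos (by omega), dl, Pi.single_apply]

theorem Lm_down {i : ι} {w : W} (h : E.len (E.f i * w) + 1 = E.len w) :
    E.Lm x i *ᵥ dl w = x i • dl (E.f i * w) + (x i - 1) • dl w := by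
  funext u
  rw [mulVec_dl]
  simp only [Lm, Matrix.of_apply]
  rw [if_neg (by omega)]
  simp [dl, Pi.single_apply]

theorem Rm_up {j : ι} {w : W} (h : E.len (w * E.f j) = E.len w + 1) :
    E.Rm x j *ᵥ dl w = dl (w * E.f j) := by
  funext u
  rw [mulVec_dl]
  simp only [Rm, Matrix.of_apply]
  rw [if_pos (by omega), dl, Pi.single_apply]

theorem Rm_down {j : ι} {w : W} (h : E.len (w * E.f j) + 1 = E.len w) :
    E.Rm x j *ᵥ dl w = x j • dl (w * E.f j) + (x j - 1) • dl w := by
  funext u
  rw [mulVec_dl]
  simp only [Rm, Matrix.of_apply]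
  rw [if_neg (by omega)]
  simp [dl, Pi.single_apply]

theorem LR_comm (hx : E.Compat x) (i j : ι) : E.Lm x i * E.Rm x j = E.Rm x j * E.Lm x i := by
  refine ext_dl fun w => ?_
  rw [← mulVec_mulVec, ← mulVec_mulVec]
  have e0 : E.f i * w * E.f j = E.f i * (w * E.f j) := mul_assoc _ _ _
  have a1 := E.left_cases i (w * E.f j)
  have a2 := E.right_cases j (E.f i * w)
  rw [← e0] at a1
  by_cases hk : E.len (E.f i * w * E.f j) = E.len w ∧ E.len (E.f i * w) = E.len (w * E.f j)
  · have he := E.key i j w hk.1 hk.2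
    have hij := hx i j w he
    have e1 : E.f i * (w * E.f j) = w := by rw [← he, E.f_f]
    have e2 : E.f i * w * E.f j = w := by rw [he, E.ff_right]
    rcases E.left_cases i w with hi | hi <;> rcases E.right_cases j w with hj | hj <;> try omega
    · rw [E.Rm_up x hj, E.Lm_up x hi, E.Lm_down x (by rw [e1]; omega), E.Rm_down x (by rw [e2]; omega), e1, e2,
        hij, he]
    · rw [E.Rm_down x hj, E.Lm_down x hi, mulVec_add, mulVec_add, mulVec_smul, mulVec_smul, mulVec_smul,
        mulVec_smul, E.Lm_down x hi, E.Rm_down x hj, E.Lm_up x (by rw [e1]; omega),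
        E.Rm_up x (by rw [e2]; omega), e1, e2, hij, he]
  · rcases E.left_cases i w with hi | hi <;> rcases E.right_cases j w with hj | hj
    · rw [E.Rm_up x hj, E.Lm_up x hi, E.Lm_up x (by rw [← e0]; omega), E.Rm_up x (by omega), e0]
    · rw [E.Rm_down x hj, E.Lm_up x hi, mulVec_add, mulVec_smul, mulVec_smul, E.Lm_up x hi,
        E.Lm_up x (by rw [← e0]; omega), E.Rm_down x (by omega), e0]
    · rw [E.Rm_up x hj, E.Lm_down x hi, mulVec_add, mulVec_smul, mulVec_smul, E.Rm_up x hj,
        E.Lm_down x (by rw [← e0]; omega), E.Rm_up x (by omega), e0]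
    · rw [E.Rm_down x hj, E.Lm_down x hi, mulVec_add, mulVec_add, mulVec_smul, mulVec_smul, mulVec_smul,
        mulVec_smul, E.Lm_down x hi, E.Rm_down x hj, E.Lm_down x (by rw [← e0]; omega),
        E.Rm_down x (by omega), e0]
      simp only [smul_add, smul_smul]
      rw [mul_comm (x j) (x i), mul_comm (x j) (x i - 1), mul_comm (x j - 1) (x i),
        mul_comm (x j - 1) (x i - 1)]
      abel

/-- the operator of left multiplication by the basis element of `w` -/
noncomputable def Tm (w : W) : Matrix W W R :=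
  if h : E.len w = 0 then 1 else E.Lm x (E.descent w h).choose * Tm (E.f (E.descent w h).choose * w)
termination_by E.len w
decreasing_by
  have := (E.descent w h).choose_spec
  omega

theorem Tm_spec (hx : E.Compat x) : ∀ n w, E.len w = n →
    E.Tm x w *ᵥ dl 1 = dl w ∧ ∀ j, E.Tm x w * E.Rm x j = E.Rm x j * E.Tm x w := by
  intro n
  induction n using Nat.strong_induction_on with
  | _ n ih =>
    intro w hw
    rw [Tm]
    split_ifs with h
    · rw [E.eq_one w h]
      exact ⟨one_mulVec _, fun j => by rw [one_mul, mul_one]⟩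
    · have hc := (E.descent w h).choose_spec
      obtain ⟨h1, h2⟩ := ih _ (by omega) _ (rfl : E.len (E.f (E.descent w h).choose * w) = _)
      refine ⟨?_, fun j => ?_⟩
      · rw [← mulVec_mulVec, h1, E.Lm_up x (by rw [E.f_f]; omega), E.f_f]
      · rw [mul_assoc, h2, ← mul_assoc, E.LR_comm x hx, mul_assoc]

theorem Tm_dl (hx : E.Compat x) (w : W) : E.Tm x w *ᵥ dl 1 = dl w := (E.Tm_spec x hx _ w rfl).1

theorem Tm_Rm (hx : E.Compat x) (w : W) (j : ι) : E.Tm x w * E.Rm x j = E.Rm x j * E.Tm x w :=
  (E.Tm_spec x hx _ w rfl).2 j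

theorem Lm_Rm_one (i : ι) : E.Lm x i *ᵥ dl 1 = E.Rm x i *ᵥ dl 1 := by
  rw [E.Lm_up x (by rw [mul_one, E.len_f, E.len_one]), E.Rm_up x (by rw [one_mul, E.len_f, E.len_one]),
    mul_one, one_mul]

/-- an operator commuting with right multiplications is determined by its value at `1` -/
theorem eq_of_dl {A B : Matrix W W R} (hA : ∀ j, A * E.Rm x j = E.Rm x j * A)
    (hB : ∀ j, B * E.Rm x j = E.Rm x j * B) (h : A *ᵥ dl 1 = B *ᵥ dl 1) : A = B := by
  refine ext_dl fun w => ?_
  induction hw : E.len w using Nat.strong_induction_on generalizing w with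
  | _ n ih =>
    by_cases h0 : E.len w = 0
    · rw [E.eq_one w h0]; exact h
    obtain ⟨j, hj⟩ := E.descent_right h0
    have e : dl w = E.Rm x j *ᵥ dl (R := R) (w * E.f j) := by
      rw [E.Rm_up x (by rw [E.ff_right]; omega), E.ff_right]
    rw [e, mulVec_mulVec, mulVec_mulVec, hA, hB, ← mulVec_mulVec, ← mulVec_mulVec, ih _ (by omega) _ rfl]

theorem Tm_left (hx : E.Compat x) {i : ι} {w : W} (h : E.len (E.f i * w) = E.len w + 1) :
    E.Lm x i * E.Tm x w = E.Tm x (E.f i * w) := by
  refine E.eq_of_dl x (fun j => ?_) (E.Tm_Rm x hx _) ?_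
  · rw [mul_assoc, E.Tm_Rm x hx, ← mul_assoc, E.LR_comm x hx, mul_assoc]
  · rw [← mulVec_mulVec, E.Tm_dl x hx, E.Lm_up x h, E.Tm_dl x hx]

theorem Tm_left_down (hx : E.Compat x) {i : ι} {w : W} (h : E.len (E.f i * w) + 1 = E.len w) :
    E.Lm x i * E.Tm x w = x i • E.Tm x (E.f i * w) + (x i - 1) • E.Tm x w := by
  refine E.eq_of_dl x (fun j => ?_) (fun j => ?_) ?_
  · rw [mul_assoc, E.Tm_Rm x hx, ← mul_assoc, E.LR_comm x hx, mul_assoc]
  · simp only [add_mul, mul_add, smul_mul_assoc, mul_smul_comm, E.Tm_Rm x hx]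
  · rw [← mulVec_mulVec, E.Tm_dl x hx, E.Lm_down x h, add_mulVec, smul_mulVec, smul_mulVec, E.Tm_dl x hx,
      E.Tm_dl x hx]

theorem Tm_right (hx : E.Compat x) {j : ι} {w : W} (h : E.len (w * E.f j) = E.len w + 1) :
    E.Tm x w * E.Lm x j = E.Tm x (w * E.f j) := by
  refine E.eq_of_dl x (fun k => ?_) (E.Tm_Rm x hx _) ?_
  · rw [mul_assoc, E.LR_comm x hx, ← mul_assoc, E.Tm_Rm x hx, mul_assoc]
  · rw [← mulVec_mulVec, E.Lm_Rm_one, mulVec_mulVec, E.Tm_Rm x hx, ← mulVec_mulVec, E.Tm_dl x hx,
      E.Rm_up x h, E.Tm_dl x hx]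

theorem Tm_right_down (hx : E.Compat x) {j : ι} {w : W} (h : E.len (w * E.f j) + 1 = E.len w) :
    E.Tm x w * E.Lm x j = x j • E.Tm x (w * E.f j) + (x j - 1) • E.Tm x w := by
  refine E.eq_of_dl x (fun k => ?_) (fun k => ?_) ?_
  · rw [mul_assoc, E.LR_comm x hx, ← mul_assoc, E.Tm_Rm x hx, mul_assoc]
  · simp only [add_mul, mul_add, smul_mul_assoc, mul_smul_comm, E.Tm_Rm x hx]
  · rw [← mulVec_mulVec, E.Lm_Rm_one, mulVec_mulVec, E.Tm_Rm x hx, ← mulVec_mulVec, E.Tm_dl x hx,
      E.Rm_down x h, add_mulVec, smul_mulVec, smul_mulVec, E.Tm_dl x hx, E.Tm_dl x hx]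

/-- the operator of left multiplication by the element with coefficients `v` -/
noncomputable def lam (v : W → R) : Matrix W W R := ∑ w, v w • E.Tm x w

theorem lam_dl (hx : E.Compat x) (v : W → R) : E.lam x v *ᵥ dl 1 = v := by
  simp only [lam, sum_mulVec, smul_mulVec, E.Tm_dl x hx]
  funext u
  simp [dl, Pi.single_apply, Finset.sum_apply]

theorem lam_Rm (hx : E.Compat x) (v : W → R) (j : ι) : E.lam x v * E.Rm x j = E.Rm x j * E.lam x v := by
  simp only [lam, Finset.sum_mul, Finset.mul_sum, smul_mul_assoc, mul_smul_comm, E.Tm_Rm x hx]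

end operators

end LenSys

end CfsgLib.Lie.Iwahori
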